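import Groth.Agent.Misc1.Unip.FG
import Groth.Agent.VarietyBC.TensorAlgClosed
import Mathlib.RingTheory.KrullDimension.Basic
import Mathlib.RingTheory.Jacobson.Artinian
import Mathlib.RingTheory.HopkinsLevitzki

/-!
# One-dimensional affine domains over an algebraically closed field
-/

set_option autoImplicit false

universe u v

open TensorProduct

noncomputable section

namespace Groth.Misc1.Unip.DimOne

variable {k : Type u} [Field k] {A : Type v} [CommRing A] [Algebra k A] [Algebra.FiniteType k A]

theorem eq_zero_of_points [IsAlgClosed k] [IsReduced A] {a : A} (h : ∀ g : A →ₐ[k] k, g a = 0) : a = 0 := by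
  by_contra hne
  obtain ⟨g, hg⟩ := exists_point_ne_zero' k (k := k) (fun hn : IsNilpotent a => hne hn.eq_zero)
  exact hg (h g)

theorem eq_algebraMap_of_points [IsAlgClosed k] [IsReduced A] {a : A} {c : k}
    (h : ∀ g : A →ₐ[k] k, g a = c) : a = algebraMap k A c := by
  rw [← sub_eq_zero]
  exact eq_zero_of_points (k := k) fun g => by rw [map_sub, h, AlgHom.commutes]; exact sub_self c

theorem exists_point_ker_eq [IsAlgClosed k] (m : Ideal A) [m.IsMaximal] :
    ∃ g : A →ₐ[k] k, RingHom.ker g = m := by
  let := Ideal.Quotient.field m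
  have : Module.Finite k (A ⧸ m) := finite_of_finite_type_of_isJacobsonRing k (A ⧸ m)
  let e := AlgEquiv.ofBijective (Algebra.ofId k (A ⧸ m)) IsAlgClosed.algebraMap_bijective_of_isIntegral
  refine ⟨e.symm.toAlgHom.comp (Ideal.Quotient.mkₐ k m), ?_⟩
  ext a
  rw [RingHom.mem_ker]
  change e.symm (Ideal.Quotient.mk m a) = 0 ↔ _
  rw [map_eq_zero_iff _ e.symm.injective, Ideal.Quotient.eq_zero_iff_mem]

theorem isMaximal_of_ne_bot [IsDomain A] (hdim : ringKrullDim A = 1) {P : Ideal A} [P.IsPrime]
    (hP : P ≠ ⊥) : P.IsMaximal := by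
  have : Ring.KrullDimLE 1 A := Ring.krullDimLE_iff.2 hdim.le
  exact Ideal.isMaximal_of_isPrime_of_ne_bot P hP

theorem finite_quotient [IsDomain A] (hdim : ringKrullDim A = 1) {I : Ideal A} (hI : I ≠ ⊥) :
    Module.Finite k (A ⧸ I) := by
  have : IsNoetherianRing A := Algebra.FiniteType.isNoetherianRing k A
  rw [Module.finite_iff_isArtinianRing, isArtinianRing_iff_krullDimLE_zero, Ring.krullDimLE_zero_iff]
  intro P hP
  have hle : I ≤ P.comap (Ideal.Quotient.mk I) :=
    fun a ha => Ideal.mem_comap.2 (by simp [Ideal.Quotient.eq_zero_iff_mem.2 ha])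
  have hmax := isMaximal_of_ne_bot hdim (P := P.comap (Ideal.Quotient.mk I))
    fun h => hI (le_bot_iff.1 (h ▸ hle))
  rw [← Ideal.map_comap_of_surjective _ Ideal.Quotient.mk_surjective P]
  exact Ideal.IsMaximal.map_of_surjective_of_ker_le Ideal.Quotient.mk_surjective (by rwa [Ideal.mk_ker])

theorem not_finite [IsDomain A] (hdim : ringKrullDim A = 1) : ¬ Module.Finite k A := by
  intro h
  have : IsArtinianRing A := IsArtinianRing.of_finite k A
  have : IsField A := IsArtinianRing.isField_of_isDomain A
  rw [ringKrullDim_eq_zero_of_isField this] at hdim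
  exact zero_ne_one hdim

end Groth.Misc1.Unip.DimOne
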