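import Groth.Agent.Misc1.Unip.DimOne.Monogenic
import Groth.Agent.S3265
import Mathlib.RingTheory.Bialgebra.SymmetricAlgebra

/-!
# A one-dimensional connected commutative unipotent group is the additive group
-/

set_option autoImplicit false
set_option linter.unusedSectionVars false

universe u v

open TensorProduct WithConv Groth.ComodLib

noncomputable section

namespace Groth.Misc1.Unip.DimOne

variable {k : Type u} [Field k] [IsAlgClosed k] {A : Type v} [CommRing A] [IsDomain A] [HopfAlgebra k A]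
  [Algebra.FiniteType k A]

theorem exists_isPrim_ne_zero (hdim : ringKrullDim A = 1) (hU : HopfRep.IsUnipotent k A) :
    ∃ x : A, x ≠ 0 ∧ IsPrim k x := by
  obtain ⟨a, ha⟩ : ∃ a : A, a ∉ Submodule.span k {(1 : A)} := by
    by_contra hne
    push Not at hne
    exact not_finite (k := k) hdim ⟨⟨{1}, by simpa using eq_top_iff.2 fun a _ => hne a⟩⟩
  exact exists_primitive_of_exhaustive (fun a => exists_mem_fixSeries hU a) ha

/-- in characteristic zero the quotient by a primitive element is trivial -/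
theorem exists_gen_charZero [CharZero k] (hdim : ringKrullDim A = 1) (hU : HopfRep.IsUnipotent k A) :
    ∃ x : A, x ≠ 0 ∧ IsPrim k x ∧ Algebra.adjoin k {x} = ⊤ := by
  obtain ⟨x, hx0, hx⟩ := exists_isPrim_ne_zero hdim hU
  refine ⟨x, hx0, hx, eq_top_iff.2 fun b _ => ?_⟩
  have := isHopfIdeal_span_primitive (k := k) hx
  let q : A →ₐc[k] A ⧸ Ideal.span {x} := Bialgebra.Quotient.mkBialgHom (Ideal.span {x})
  have hfin := finite_quotient (k := k) hdim (I := Ideal.span {x}) (by simpa using hx0)
  have hUq := isUnipotent_of_surjective q Ideal.Quotient.mk_surjective hU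
  have : IsReduced (A ⧸ Ideal.span {x}) := isReduced_charZero k (A ⧸ Ideal.span {x})
  have hid := Groth.Agent.S3265.result k (A ⧸ Ideal.span {x}) hUq
  have hne : Nontrivial (A ⧸ Ideal.span {x}) :=
    (Bialgebra.counitAlgHom k (A ⧸ Ideal.span {x})).toRingHom.domain_nontrivial
  have : IsArtinianRing (A ⧸ Ideal.span {x}) := IsArtinianRing.of_finite k _
  have hsub : Subsingleton (MaximalSpectrum (A ⧸ Ideal.span {x})) := by
    classical
    refine ⟨fun m n => ?_⟩
    by_contra hmn
    let e := IsArtinianRing.equivPi (A ⧸ Ideal.span {x})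
    rcases hid (e.symm (Pi.single m 1)) (by
      refine IsIdempotentElem.map ?_ e.symm
      change Pi.single m 1 * Pi.single m 1 = Pi.single m 1
      rw [← Pi.single_mul, mul_one]) with h | h
    · have := congrArg (fun z => e z m) h
      simp at this
    · have := congrArg (fun z => e z n) h
      simp [Pi.single_eq_of_ne (Ne.symm hmn)] at this
  have hloc : IsField (A ⧸ Ideal.span {x}) := by
    have : IsLocalRing (A ⧸ Ideal.span {x}) := by
      obtain ⟨m⟩ : Nonempty (MaximalSpectrum (A ⧸ Ideal.span {x})) := inferInstance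
      exact IsLocalRing.of_unique_max_ideal ⟨m.1, m.2, fun I hI => congrArg MaximalSpectrum.asIdeal
        (Subsingleton.elim (⟨I, hI⟩ : MaximalSpectrum (A ⧸ Ideal.span {x})) m)⟩
    exact IsArtinianRing.isField_of_isReduced_of_isLocalRing _
  let := hloc.toField
  have hbij : Function.Bijective (algebraMap k (A ⧸ Ideal.span {x})) :=
    IsAlgClosed.algebraMap_bijective_of_isIntegral
  refine mem_adjoin_of_invariant hx q Ideal.Quotient.mk_surjective
    (fun c hc => Ideal.Quotient.eq_zero_iff_mem.1 hc) ?_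
  have hq : ∀ c : A, q c = algebraMap k (A ⧸ Ideal.span {x}) (Coalgebra.counit (R := k) c) := by
    intro c
    obtain ⟨s, hs⟩ := hbij.2 (q c)
    rw [← hs]
    congr 1
    have h2 := CoalgHomClass.counit_comp_apply q c
    rw [← hs, Bialgebra.counit_algebraMap] at h2
    exact h2
  have hlin : (q : A →ₗ[k] A ⧸ Ideal.span {x}) = (Algebra.linearMap k (A ⧸ Ideal.span {x})) ∘ₗ
      Coalgebra.counit (R := k) := LinearMap.ext hq
  rw [hlin, LinearMap.lTensor_comp, LinearMap.comp_apply, Coalgebra.lTensor_counit_comul,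
    LinearMap.lTensor_tmul, Algebra.linearMap_apply, map_one]

variable {p : ℕ} [hp : Fact p.Prime] [CharP k p]

include hp

/-- finitely many polynomials in primitive elements are polynomials in one primitive element -/
theorem exists_gen_of_mem (hdim : ringKrullDim A = 1) {a : A}
    (ha : a ∈ Algebra.adjoin k {x : A | IsPrim k x}) : ∃ z, IsPrim k z ∧ a ∈ Algebra.adjoin k {z} := by
  induction ha using Algebra.adjoin_induction with
  | mem x hx => exact ⟨x, hx, Algebra.subset_adjoin rfl⟩
  | algebraMap r => exact ⟨0, isPrim_zero, Subalgebra.algebraMap_mem _ r⟩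
  | add x y _ _ hx hy =>
    obtain ⟨z₁, h₁, hx⟩ := hx
    obtain ⟨z₂, h₂, hy⟩ := hy
    obtain ⟨z, hz, e₁, e₂⟩ := exists_common p hdim h₁ h₂
    exact ⟨z, hz, add_mem (Algebra.adjoin_le (Set.singleton_subset_iff.2 e₁) hx)
      (Algebra.adjoin_le (Set.singleton_subset_iff.2 e₂) hy)⟩
  | mul x y _ _ hx hy =>
    obtain ⟨z₁, h₁, hx⟩ := hx
    obtain ⟨z₂, h₂, hy⟩ := hy
    obtain ⟨z, hz, e₁, e₂⟩ := exists_common p hdim h₁ h₂
    exact ⟨z, hz, mul_mem (Algebra.adjoin_le (Set.singleton_subset_iff.2 e₁) hx)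
      (Algebra.adjoin_le (Set.singleton_subset_iff.2 e₂) hy)⟩

theorem exists_biEval (hdim : ringKrullDim A = 1) {c : A ⊗[k] A}
    (hc : c ∈ LinearMap.range (TensorProduct.map
      (Algebra.adjoin k {x : A | IsPrim k x}).toSubmodule.subtype
      (Algebra.adjoin k {x : A | IsPrim k x}).toSubmodule.subtype)) :
    ∃ z, IsPrim k z ∧ c ∈ (biEval k z).range := by
  obtain ⟨w, rfl⟩ := hc
  induction w using TensorProduct.induction_on with
  | zero => exact ⟨0, isPrim_zero, by rw [map_zero]; exact zero_mem _⟩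
  | tmul a b =>
    obtain ⟨z₁, h₁, ha⟩ := exists_gen_of_mem (p := p) hdim a.2
    obtain ⟨z₂, h₂, hb⟩ := exists_gen_of_mem (p := p) hdim b.2
    obtain ⟨z, hz, e₁, e₂⟩ := exists_common p hdim h₁ h₂
    have ha' := Algebra.adjoin_le (Set.singleton_subset_iff.2 e₁) ha
    have hb' := Algebra.adjoin_le (Set.singleton_subset_iff.2 e₂) hb
    rw [Algebra.adjoin_singleton_eq_range_aeval] at ha' hb'
    obtain ⟨f, hf⟩ := ha'
    obtain ⟨g, hg⟩ := hb'
    change Polynomial.aeval z f = (a : A) at hf
    change Polynomial.aeval z g = (b : A) at hg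
    refine ⟨z, hz, Polynomial.aeval (MvPolynomial.X 0) f * Polynomial.aeval (MvPolynomial.X 1) g, ?_⟩
    change biEval k z _ = _
    rw [map_mul, biEval_aeval_left, biEval_aeval_right, Algebra.TensorProduct.tmul_mul_tmul, mul_one,
      one_mul, hf, hg]
    rfl
  | add u v hu hv =>
    obtain ⟨z₁, h₁, hu⟩ := hu
    obtain ⟨z₂, h₂, hv⟩ := hv
    obtain ⟨z, hz, e₁, e₂⟩ := exists_common p hdim h₁ h₂
    exact ⟨z, hz, by rw [map_add]; exact add_mem (biEval_range_mono e₁ hu) (biEval_range_mono e₂ hv)⟩

/-- the extension step -/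
theorem mem_adjoin_of_cocycle (hdim : ringKrullDim A = 1) {z : A} (hz : IsPrim k z) (hz0 : z ≠ 0) {b : A}
    (hb0 : Coalgebra.counit (R := k) b = 0)
    (hc : Coalgebra.comul (R := k) b - b ⊗ₜ[k] (1 : A) - (1 : A) ⊗ₜ[k] b ∈ (biEval k z).range) :
    b ∈ Algebra.adjoin k {x : A | IsPrim k x} := by
  obtain ⟨C, hC⟩ := hc
  change biEval k z C = _ at hC
  have hΔ : Coalgebra.comul (R := k) b = b ⊗ₜ[k] (1 : A) + (1 : A) ⊗ₜ[k] b + biEval k z C := by
    rw [hC]; abel
  have hz' := counit_primitive (k := k) hz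
  -- the first restriction of the cocycle vanishes
  have hC0 : MvPolynomial.aeval ![z, 0] C = 0 := by
    have e : (TensorProduct.rid k A).toLinearMap.comp ((Coalgebra.counit (R := k) (A := A)).lTensor A) ∘ₗ
        (biEval k z).toLinearMap = (MvPolynomial.aeval ![z, 0] : MvPolynomial (Fin 2) k →ₐ[k] A).toLinearMap := by
      have h : (Algebra.TensorProduct.rid k k A).toAlgHom.comp
          ((Algebra.TensorProduct.map (AlgHom.id k A) (Bialgebra.counitAlgHom k A)).comp (biEval k z)) =
          (MvPolynomial.aeval ![z, 0] : MvPolynomial (Fin 2) k →ₐ[k] A) :=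
        MvPolynomial.algHom_ext fun i => by fin_cases i <;> simp [biEval, hz']
      exact LinearMap.ext fun s => DFunLike.congr_fun h s
    have h := LinearMap.congr_fun e C
    simp only [LinearMap.comp_apply, AlgHom.toLinearMap_apply, hC, map_sub, LinearMap.lTensor_tmul,
      Coalgebra.lTensor_counit_comul, hb0, Bialgebra.counit_one, LinearEquiv.coe_coe,
      TensorProduct.rid_tmul] at h
    rw [← h]
    simp
  have hcc : MvPolynomial.constantCoeff C = 0 := by
    have e : (Bialgebra.counitAlgHom k A).comp (MvPolynomial.aeval ![z, 0]) =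
        (MvPolynomial.aeval fun _ => (0 : k) : MvPolynomial (Fin 2) k →ₐ[k] k) :=
      MvPolynomial.algHom_ext fun i => by fin_cases i <;> simp [hz']
    have h := DFunLike.congr_fun e C
    rw [AlgHom.comp_apply, hC0, map_zero] at h
    simpa using h.symm
  obtain ⟨a, m, ha, hmem⟩ := exists_pp_mem (k := k) (p := p) hdim hz0 b
  have := charP_alg k A p
  have := charP_tensor k A p
  have := isHopfIdeal_span_primitive (k := k) hz
  set w := pp p a m b with hw
  have hΔw : Coalgebra.comul (R := k) w = w ⊗ₜ[k] (1 : A) + (1 : A) ⊗ₜ[k] w + biEval k z (pp p a m C) := by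
    rw [hw, comul_pp, hΔ, pp_add, pp_add, map_pp]
    congr 2
    · exact (map_pp (Algebra.TensorProduct.includeLeft : A →ₐ[k] A ⊗[k] A) a m b).symm
    · exact (map_pp (Algebra.TensorProduct.includeRight : A →ₐ[k] A ⊗[k] A) a m b).symm
  let q : A →ₐc[k] A ⧸ Ideal.span {z} := Bialgebra.Quotient.mkBialgHom (Ideal.span {z})
  have hqC : ∀ s, MvPolynomial.aeval ![z, 0] s = 0 →
      (q : A →ₗ[k] A ⧸ Ideal.span {z}).lTensor A (biEval k z s) = 0 := by
    intro s hs
    have h : (Algebra.TensorProduct.map (AlgHom.id k A) (q : A →ₐ[k] A ⧸ Ideal.span {z})).comp (biEval k z) =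
        (Algebra.TensorProduct.includeLeft : A →ₐ[k] A ⊗[k] (A ⧸ Ideal.span {z})).comp
          (MvPolynomial.aeval ![z, 0]) := by
      refine MvPolynomial.algHom_ext fun i => ?_
      have hq : q z = 0 := Ideal.Quotient.eq_zero_iff_mem.2 (Ideal.mem_span_singleton_self z)
      fin_cases i <;> simp [biEval, hq]
    have h2 := DFunLike.congr_fun h s
    rw [AlgHom.comp_apply, AlgHom.comp_apply, hs, map_zero] at h2
    exact h2
  have hwz : w ∈ Algebra.adjoin k {z} := by
    refine mem_adjoin_of_invariant hz q Ideal.Quotient.mk_surjective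
      (fun c hc => Ideal.Quotient.eq_zero_iff_mem.1 hc) ?_
    rw [hΔw, map_add, map_add, hqC _ (by rw [map_pp, hC0]; simp [pp, zero_pow (pow_pos hp.out.pos _).ne']), add_zero]
    change w ⊗ₜ[k] (Ideal.Quotient.mk (Ideal.span {z}) (1 : A)) +
      (1 : A) ⊗ₜ[k] (Ideal.Quotient.mk (Ideal.span {z}) w) = _
    rw [Ideal.Quotient.eq_zero_iff_mem.2 hmem, TensorProduct.tmul_zero, add_zero, map_one]
  rw [Algebra.adjoin_singleton_eq_range_aeval] at hwz
  obtain ⟨f, hf⟩ := hwz
  change Polynomial.aeval z f = w at hf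
  have heq : pp p a m C = cobound f := by
    refine biEval_injective hz hz0 ?_
    rw [← comul_aeval_sub hz, hf, hΔw]
    abel
  obtain ⟨h, hh⟩ := exists_cobound (p := p) ha f C hcc heq
  have hprim : IsPrim k (b - Polynomial.aeval z h) := by
    have h2 := comul_aeval_sub (k := k) hz h
    rw [← hh] at h2
    unfold IsPrim
    rw [map_sub, hΔ, ← h2, TensorProduct.sub_tmul, TensorProduct.tmul_sub]
    abel
  rw [← sub_add_cancel b (Polynomial.aeval z h)]
  refine add_mem (Algebra.subset_adjoin hprim) (Algebra.adjoin_mono (Set.singleton_subset_iff.2 ?_)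
    (Algebra.adjoin_singleton_eq_range_aeval k z ▸ ⟨h, rfl⟩ : Polynomial.aeval z h ∈ Algebra.adjoin k {z}))
  exact hz

/-- in positive characteristic: generation by one primitive element -/
theorem exists_gen_charP [Coalgebra.IsCocomm k A] (p : ℕ) [hp : Fact p.Prime] [CharP k p]
    (hdim : ringKrullDim A = 1) (hU : HopfRep.IsUnipotent k A) :
    ∃ x : A, x ≠ 0 ∧ IsPrim k x ∧ Algebra.adjoin k {x} = ⊤ := by
  classical
  obtain ⟨x₀, hx₀, hx₀p⟩ := exists_isPrim_ne_zero hdim hU
  set E := Algebra.adjoin k {x : A | IsPrim k x}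
  have hE : ∀ n, ∀ b ∈ fixSeries k A A n, b ∈ E := by
    intro n
    induction n with
    | zero => intro b hb; rw [(Submodule.mem_bot k).1 hb]; exact zero_mem _
    | succ n ih =>
      intro b hb
      set b' := b - algebraMap k A (Coalgebra.counit (R := k) b) with hb'
      suffices b' ∈ E by
        have h2 := add_mem this (Subalgebra.algebraMap_mem E (Coalgebra.counit (R := k) b))
        rwa [hb', sub_add_cancel] at h2
      have hb'0 : Coalgebra.counit (R := k) b' = 0 := by
        rw [hb', map_sub, Bialgebra.counit_algebraMap, sub_self]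
      have hb'n : b' ∈ fixSeries k A A (n + 1) := by
        refine Submodule.sub_mem _ hb ?_
        rw [Algebra.algebraMap_eq_smul_one]
        refine Submodule.smul_mem _ _ (fixSeries_mono (Nat.le_add_left 1 n) ?_)
        rw [fixSeries_regular_one]
        exact Submodule.mem_span_singleton_self _
      set c := Coalgebra.comul (R := k) b' - b' ⊗ₜ[k] (1 : A) - (1 : A) ⊗ₜ[k] b' with hc
      have hs : ∀ φ : A →ₗ[k] k, slice φ c = op (augL φ) b' - φ b' • (1 : A) := by
        intro φ
        rw [hc, map_sub, map_sub, slice_tmul, slice_tmul, op_augL]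
        rfl
      have hcomm : TensorProduct.comm k A A c = c := by
        rw [hc, map_sub, map_sub, Coalgebra.comm_comul, TensorProduct.comm_tmul, TensorProduct.comm_tmul]
        abel
      have hslice : ∀ φ : A →ₗ[k] k, slice φ c ∈ E.toSubmodule := fun φ => by
        rw [hs]
        exact Submodule.sub_mem _ (ih _ (mem_fixSeries_succ.1 hb'n φ)) (Submodule.smul_mem _ _ (one_mem E))
      have hcmem : c ∈ LinearMap.range (TensorProduct.map E.toSubmodule.subtype E.toSubmodule.subtype) :=
        (mem_range_map_iff _ _ _).2 ⟨hslice, fun ψ => by rw [← hcomm, lslice_comm]; exact hslice ψ⟩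
      obtain ⟨z₁, h₁, hz₁⟩ := exists_biEval (p := p) hdim hcmem
      obtain ⟨z, hz, e₁, e₀⟩ := exists_common p hdim h₁ hx₀p
      have hz0 : z ≠ 0 := by
        rintro rfl
        rw [Algebra.adjoin_singleton_eq_range_aeval] at e₀
        obtain ⟨f, hf⟩ := e₀
        change Polynomial.aeval (0 : A) f = x₀ at hf
        rw [Polynomial.aeval_def, Polynomial.eval₂_at_zero] at hf
        have h2 := counit_primitive (k := k) hx₀p
        rw [← hf, Bialgebra.counit_algebraMap] at h2
        exact hx₀ (by rw [← hf, h2, map_zero])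
      exact mem_adjoin_of_cocycle (p := p) hdim hz hz0 hb'0 (biEval_range_mono e₁ hz₁)
  have htop : ∀ a : A, a ∈ E := fun a => by
    obtain ⟨m, hm⟩ := exists_mem_fixSeries hU a
    exact hE m a hm
  obtain ⟨s, hs⟩ := (Algebra.FiniteType.out : (⊤ : Subalgebra k A).FG)
  obtain ⟨z, hz, hzs⟩ : ∃ z, IsPrim k z ∧ ∀ a ∈ insert x₀ s, a ∈ Algebra.adjoin k {z} := by
    generalize insert x₀ s = t
    induction t using Finset.induction_on with
    | empty => exact ⟨0, isPrim_zero, by simp⟩
    | insert a t _ ih =>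
      obtain ⟨z₁, h₁, hz₁⟩ := ih
      obtain ⟨z₂, h₂, ha⟩ := exists_gen_of_mem (p := p) hdim (htop a)
      obtain ⟨z, hz, e₁, e₂⟩ := exists_common p hdim h₁ h₂
      refine ⟨z, hz, fun b hb => ?_⟩
      rcases Finset.mem_insert.1 hb with rfl | hb
      · exact Algebra.adjoin_le (Set.singleton_subset_iff.2 e₂) ha
      · exact Algebra.adjoin_le (Set.singleton_subset_iff.2 e₁) (hz₁ b hb)
  have hgen : Algebra.adjoin k {z} = ⊤ := by
    refine eq_top_iff.2 ?_
    rw [← hs]
    exact Algebra.adjoin_le fun a ha => hzs a (Finset.mem_insert_of_mem ha)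
  refine ⟨z, ?_, hz, hgen⟩
  rintro rfl
  have hfin : Module.Finite k A := by
    refine ⟨⟨{1}, ?_⟩⟩
    rw [Finset.coe_singleton, ← Algebra.toSubmodule_bot.trans Submodule.one_eq_span, ← Algebra.top_toSubmodule]
    congr 1
    rw [← hgen, eq_comm, eq_bot_iff]
    exact Algebra.adjoin_le (Set.singleton_subset_iff.2 (zero_mem _))
  exact not_finite (k := k) hdim hfin

end Groth.Misc1.Unip.DimOne
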