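import Groth.Agent.Misc1.Unip.DimOne.Comm
import Groth.Agent.Misc1.Unip.DimOne.Ga
import Groth.Agent.Sga3.MultTypeField
import Groth.Agent.S3308
import Groth.Agent.S7967
import Groth.Agent.S4128
import Mathlib.LinearAlgebra.FreeModule.PID
import Mathlib.Algebra.MonoidAlgebra.NoZeroDivisors
import Mathlib.RingTheory.FiniteType

/-!
# Connected one-dimensional groups: `Gₘ` or `Gₐ`
-/

set_option autoImplicit false
set_option linter.unusedSectionVars false

universe u v

open TensorProduct WithConv Groth.ComodLib

noncomputable section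

namespace Groth.Misc1.Unip.DimOne

/-- the comparison map with the symmetric algebra -/
theorem nonempty_equiv_sym {k : Type u} [Field k] {A : Type v} [CommRing A] [IsDomain A] [HopfAlgebra k A]
    [IsAlgClosed k] {x : A} (hx : IsPrim k x) (hx0 : x ≠ 0) (hgen : Algebra.adjoin k {x} = ⊤) :
    Nonempty (A ≃ₐc[k] SymmetricAlgebra k k) := by
  let ℓ : k →ₗ[k] A := (LinearMap.id : k →ₗ[k] k).smulRight x
  let F : SymmetricAlgebra k k →ₐ[k] A := SymmetricAlgebra.lift ℓ
  have hF : F (SymmetricAlgebra.ι k k 1) = x := by simp [F, ℓ]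
  have hcounit : (Bialgebra.counitAlgHom k A).comp F = Bialgebra.counitAlgHom k (SymmetricAlgebra k k) := by
    refine SymmetricAlgebra.algHom_ext (LinearMap.ext_ring ?_)
    simp [hF, counit_primitive hx, SymmetricAlgebra.algebraMapInv_ι]
  have hcomul : (Algebra.TensorProduct.map F F).comp (Bialgebra.comulAlgHom k (SymmetricAlgebra k k)) =
      (Bialgebra.comulAlgHom k A).comp F := by
    refine SymmetricAlgebra.algHom_ext (LinearMap.ext_ring ?_)
    change Algebra.TensorProduct.map F F (Coalgebra.comul (R := k) (SymmetricAlgebra.ι k k 1)) =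
      Coalgebra.comul (R := k) (F (SymmetricAlgebra.ι k k 1))
    rw [SymmetricAlgebra.comul_ι, map_add, Algebra.TensorProduct.map_tmul, Algebra.TensorProduct.map_tmul,
      hF, map_one F]
    exact hx.symm
  let Fc : SymmetricAlgebra k k →ₐc[k] A := BialgHom.ofAlgHom F hcounit hcomul
  refine ⟨(BialgEquiv.ofBijective Fc ⟨?_, ?_⟩).symm⟩
  · let Φ : SymmetricAlgebra k k →ₐ[k] Polynomial k :=
      SymmetricAlgebra.lift ((LinearMap.id : k →ₗ[k] k).smulRight (Polynomial.X : Polynomial k))
    let G : Polynomial k →ₐ[k] SymmetricAlgebra k k := Polynomial.aeval (SymmetricAlgebra.ι k k 1)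
    have hGΦ : G.comp Φ = AlgHom.id k _ :=
      SymmetricAlgebra.algHom_ext (LinearMap.ext_ring (by simp [G, Φ]))
    have hΦ : Function.Injective Φ := Function.LeftInverse.injective fun s => DFunLike.congr_fun hGΦ s
    have hFΦ : F = (Polynomial.aeval x).comp Φ :=
      SymmetricAlgebra.algHom_ext (LinearMap.ext_ring (by simp [hF, Φ]))
    change Function.Injective F
    rw [hFΦ]
    exact (aeval_injective hx hx0).comp hΦ
  · change Function.Surjective F
    rw [← AlgHom.range_eq_top, eq_top_iff, ← hgen]
    exact Algebra.adjoin_le (Set.singleton_subset_iff.2 ⟨_, hF⟩)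

section

variable {k : Type u} [Field k] [IsAlgClosed k] {A : Type u} [CommRing A] [IsDomain A] [HopfAlgebra k A]
  [Algebra.FiniteType k A]

/-- a character of finite order of a connected group is trivial -/
theorem groupLike_torsion {g : A} (hg : IsGroupLikeElem k g) {n : ℕ} (hn : n ≠ 0) (h : g ^ n = 1) : g = 1 := by
  classical
  obtain ⟨r, -, hr⟩ : ∃ r ∈ (Polynomial.X ^ n - 1 : Polynomial k).roots, g = algebraMap k A r := by
    have hs := (IsAlgClosed.splits (Polynomial.X ^ n - 1 : Polynomial k)).eq_prod_roots
    have he := congrArg (Polynomial.aeval g) hs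
    rw [map_sub, map_pow, Polynomial.aeval_X, map_one, h, sub_self] at he
    have hm : (Polynomial.X ^ n - 1 : Polynomial k).Monic := by
      simpa using Polynomial.monic_X_pow_sub_C (1 : k) hn
    rw [hm.leadingCoeff] at he
    simp only [map_one, one_mul, map_multiset_prod, Multiset.map_map, Function.comp_def, map_sub,
      Polynomial.aeval_X, Polynomial.aeval_C] at he
    obtain ⟨r, hr, hr0⟩ := Multiset.mem_map.1 (Multiset.prod_eq_zero_iff.1 he.symm)
    exact ⟨r, hr, sub_eq_zero.1 hr0⟩
  have h1 := hg.counit_eq_one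
  rw [hr, Bialgebra.counit_algebraMap] at h1
  rw [hr, h1, map_one]

/-- a diagonalizable connected group of dimension one is the multiplicative group -/
theorem nonempty_equiv_gm (hdim : ringKrullDim A = 1) (hd : SGA3b.IsDiag k A) :
    Nonempty (A ≃ₐc[k] MonoidAlgebra k (Multiplicative ℤ)) := by
  classical
  obtain ⟨M, _, ⟨e⟩⟩ := hd
  have hfg : Group.FG M := by
    rw [← MonoidAlgebra.finiteType_iff_group_fg (R := k)]
    exact Algebra.FiniteType.equiv ‹_› e.toAlgEquiv
  have hinj : Function.Injective fun m : M => e.symm (MonoidAlgebra.single m (1 : k)) :=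
    e.symm.injective.comp fun a b h => MonoidAlgebra.single_left_injective one_ne_zero h
  have htf : IsMulTorsionFree M := ⟨fun n hn a b hab => by
    have h1 : (a / b) ^ n = 1 := by
      rw [div_pow]
      exact div_eq_one.2 hab
    have h2 := groupLike_torsion
      ((MonoidAlgebra.isGroupLikeElem_single_one (R := k) (A := k) (a / b)).map
        (e.symm : MonoidAlgebra k M →ₐc[k] A)) hn (by
        change (e.symm (MonoidAlgebra.single (a / b) (1 : k))) ^ n = 1
        rw [← map_pow, MonoidAlgebra.single_pow, h1, one_pow, ← MonoidAlgebra.one_def, map_one])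
    have h3 : a / b = 1 := hinj (by
      change e.symm _ = e.symm (MonoidAlgebra.single 1 1)
      rw [← MonoidAlgebra.one_def, map_one]
      exact h2)
    exact div_eq_one.1 h3⟩
  have : AddGroup.FG (Additive M) := AddGroup.fg_iff_addMonoid_fg.2 inferInstance
  have : Module.Finite ℤ (Additive M) := Module.Finite.iff_addGroup_fg.2 inferInstance
  have : Module.Free ℤ (Additive M) := Module.free_of_finite_type_torsion_free'
  let b := Module.finBasis ℤ (Additive M)
  have hnf : ¬ Module.Finite k A := not_finite hdim
  have hr1 : Module.finrank ℤ (Additive M) = 1 := by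
    rcases Nat.lt_trichotomy (Module.finrank ℤ (Additive M)) 1 with h | h | h
    · exfalso
      have h0 : Module.finrank ℤ (Additive M) = 0 := by omega
      have : Subsingleton (Additive M) := Module.finrank_zero_iff.1 h0
      have : Subsingleton M := Additive.ofMul.injective.subsingleton
      exact hnf (Module.Finite.equiv (M := MonoidAlgebra k M) e.symm.toAlgEquiv.toLinearEquiv)
    · exact h
    · exfalso
      let i₀ : Fin (Module.finrank ℤ (Additive M)) := ⟨0, by omega⟩
      let i₁ : Fin (Module.finrank ℤ (Additive M)) := ⟨1, h⟩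
      let π : M →* Multiplicative ℤ := AddMonoidHom.toMultiplicativeRight (b.coord i₀).toAddMonoidHom
      have hπ : Function.Surjective π := fun z =>
        ⟨Additive.toMul (Multiplicative.toAdd z • b i₀), by
          change Multiplicative.ofAdd (b.coord i₀ (Multiplicative.toAdd z • b i₀)) = z
          simp⟩
      let f : MonoidAlgebra k M →ₐ[k] MonoidAlgebra k (Multiplicative ℤ) :=
        MonoidAlgebra.lift k (MonoidAlgebra k (Multiplicative ℤ)) M
          ((MonoidAlgebra.of k (Multiplicative ℤ)).comp π)
      have hf : Function.Surjective f := by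
        intro z
        induction z using MonoidAlgebra.induction_linear with
        | zero => exact ⟨0, map_zero _⟩
        | add p q hp hq =>
          obtain ⟨p', rfl⟩ := hp
          obtain ⟨q', rfl⟩ := hq
          exact ⟨p' + q', map_add _ _ _⟩
        | single z c =>
          obtain ⟨m, rfl⟩ := hπ z
          exact ⟨MonoidAlgebra.single m c, by simp [f, MonoidAlgebra.of_apply]⟩
      let F : A →ₐ[k] MonoidAlgebra k (Multiplicative ℤ) := f.comp e.toAlgEquiv.toAlgHom
      have hF : Function.Surjective F := hf.comp e.surjective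
      have hP : (RingHom.ker F).IsPrime := RingHom.ker_isPrime F
      have hne : RingHom.ker F ≠ ⊥ := by
        intro hbot
        have hFinj : Function.Injective F := (RingHom.injective_iff_ker_eq_bot F.toRingHom).2 hbot
        have h1 : F (e.symm (MonoidAlgebra.single (Additive.toMul (b i₁)) 1)) = F 1 := by
          change f (e (e.symm _)) = F 1
          rw [BialgEquiv.apply_symm_apply, map_one]
          have : π (Additive.toMul (b i₁)) = 1 := by
            change Multiplicative.ofAdd (b.coord i₀ (b i₁)) = 1
            simp [i₀, i₁, Finsupp.single_apply]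
          simp [f, this, MonoidAlgebra.one_def]
        have h2 := hFinj h1
        have h3 : Additive.toMul (b i₁) = 1 := hinj (by
          change e.symm _ = e.symm (MonoidAlgebra.single 1 1)
          rw [← MonoidAlgebra.one_def, map_one]
          exact h2)
        exact b.ne_zero i₁ h3
      have := isMaximal_of_ne_bot hdim hne
      let := Ideal.Quotient.field (RingHom.ker F)
      have : Module.Finite k (A ⧸ RingHom.ker F) := finite_of_finite_type_of_isJacobsonRing k _
      have : Module.Finite k (MonoidAlgebra k (Multiplicative ℤ)) :=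
        Module.Finite.equiv (Ideal.quotientKerAlgEquivOfSurjective hF).toLinearEquiv
      have : Finite (Multiplicative ℤ) := Module.Finite.finite_basis
        (MonoidAlgebra.basis (Multiplicative ℤ) k)
      exact _root_.not_finite (Multiplicative ℤ)
  let eb : Additive M ≃+ ℤ :=
    ((Module.finBasisOfFinrankEq ℤ (Additive M) hr1).equivFun.trans (LinearEquiv.funUnique (Fin 1) ℤ ℤ)).toAddEquiv
  let em : M ≃* Multiplicative ℤ := AddEquiv.toMultiplicativeRight eb
  exact ⟨e.trans (MonoidAlgebra.domCongrBialgEquiv k k em)⟩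

/-- the classification -/
theorem classify (hdim : ringKrullDim A = 1) :
    Nonempty (A ≃ₐc[k] MonoidAlgebra k (Multiplicative ℤ)) ∨ Nonempty (A ≃ₐc[k] SymmetricAlgebra k k) := by
  classical
  haveI := isCocomm_of_dim_one (k := k) hdim
  have hT : HopfRep.IsTrigonalizable k A := Groth.Agent.S3308.result k A
  by_cases hall : ∀ g : A, IsGroupLikeElem k g → g = 1
  · -- no characters: unipotent
    refine Or.inr ?_
    have hU : HopfRep.IsUnipotent k A := isUnipotent_of_exhaustive fun a => by
      obtain ⟨m, hm⟩ := exists_mem_charSeries hT a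
      exact ⟨m, Groth.Agent.S7967.map_charSeries (BialgHom.id k A) (fun g hg => hall g hg) m a hm⟩
    obtain ⟨x, hx0, hx, hgen⟩ : ∃ x : A, x ≠ 0 ∧ IsPrim k x ∧ Algebra.adjoin k {x} = ⊤ := by
      obtain ⟨p, hp⟩ := CharP.exists k
      rcases CharP.char_is_prime_or_zero k p with hp' | rfl
      · haveI := Fact.mk hp'
        exact exists_gen_charP p hdim hU
      · haveI := CharP.charP_to_charZero k
        exact exists_gen_charZero hdim hU
    exact nonempty_equiv_sym hx hx0 hgen
  refine Or.inl ?_
  push Not at hall
  obtain ⟨g, hg, hg1⟩ := hall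
  obtain ⟨B, iB, hB, ψ, J, hJ, hψ, hdiag, hJeq, hU⟩ :=
    (Groth.Agent.S7967.result k A).1 hT
  have hBdiag : SGA3b.IsDiag k B := Groth.Sga3.MultType.isDiag_of_span hdiag
  obtain ⟨r, hr⟩ := Groth.Agent.S4128.result k A B hBdiag ψ hψ J hJeq hU
  have hrψ : ∀ b, r (ψ b) = b := fun b => DFunLike.congr_fun hr b
  have hrs : Function.Surjective r := fun b => ⟨ψ b, hrψ b⟩
  have : IsDomain B := Function.Injective.isDomain ψ hψ
  have hPp : (RingHom.ker (r : A →ₐ[k] B)).IsPrime := RingHom.ker_isPrime _
  have hinj : Function.Injective r := by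
    refine (RingHom.injective_iff_ker_eq_bot (r : A →ₐ[k] B).toRingHom).2 ?_
    by_contra hne
    have := isMaximal_of_ne_bot hdim (P := RingHom.ker (r : A →ₐ[k] B)) hne
    obtain ⟨pt, hpt⟩ := exists_point_ker_eq (k := k) (RingHom.ker (r : A →ₐ[k] B))
    have hconst : ∀ a : A, r a = algebraMap k B (pt a) := by
      intro a
      have h : a - algebraMap k A (pt a) ∈ RingHom.ker (r : A →ₐ[k] B) := by
        rw [← hpt, RingHom.mem_ker, map_sub, AlgHom.commutes]
        exact sub_self _
      rw [RingHom.mem_ker, map_sub, AlgHom.commutes, sub_eq_zero] at h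
      exact h
    have hker : RingHom.ker (Bialgebra.counitAlgHom k B) = ⊥ := by
      refine (RingHom.injective_iff_ker_eq_bot _).1 ?_
      intro b b' hbb'
      rw [← hrψ b, ← hrψ b', hconst, hconst]
      have hb := hconst (ψ b)
      have hb' := hconst (ψ b')
      rw [hrψ] at hb hb'
      rw [hb, hb', AlgHom.commutes, AlgHom.commutes] at hbb'
      exact congrArg _ hbb'
    have hJbot : J = ⊥ := by rw [hJeq, hker, Ideal.map_bot]
    let q : A →ₐc[k] A ⧸ J := Bialgebra.Quotient.mkBialgHom J
    have hq1 : q g = 1 := groupLike_eq_one (fun a => exists_mem_fixSeries hU a) (hg.map q)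
    refine hg1 (sub_eq_zero.1 ((Submodule.mem_bot A).1 (hJbot ▸ ?_ : g - 1 ∈ (⊥ : Ideal A))))
    rw [← Ideal.Quotient.eq_zero_iff_mem, map_sub, map_one, sub_eq_zero]
    exact hq1
  refine nonempty_equiv_gm hdim (Groth.Sga3.MultType.isDiag_of_surjective
    ((BialgEquiv.ofBijective r ⟨hinj, hrs⟩).symm : B →ₐc[k] A)
    (BialgEquiv.ofBijective r ⟨hinj, hrs⟩).symm.surjective hBdiag)

end

end Groth.Misc1.Unip.DimOne
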