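import Groth.Agent.VarietyBC.TensorGeom
import Groth.Agent.VarietyBC.TensorAlgClosed

/-!
# A connected algebra with a rational point is geometrically connected
-/

set_option autoImplicit false
set_option linter.unusedSectionVars false

universe u w

open TensorProduct Groth.VarietyBC

noncomputable section

namespace Groth.Misc1.Unip.DimOne

variable {k : Type u} [Field k] {A : Type w} [CommRing A] [Algebra k A]

theorem idemTrivial_tensor_separable (hA : IdemTrivial A) (φ : A →ₐ[k] k) (S : Type u) [Field S] [Algebra k S]
    [Algebra.IsSeparable k S] : IdemTrivial (A ⊗[k] S) := by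
  intro e he
  obtain ⟨D, hD, z, hz⟩ := exists_fg_range (k := k) (A := S) (B := A) e
  have : Algebra.FiniteType k D := (Subalgebra.fg_iff_finiteType D).mp hD
  have : Algebra.IsIntegral k D :=
    ⟨fun x => (isIntegral_algHom_iff D.val Subtype.val_injective).mp (Algebra.IsIntegral.isIntegral x.1)⟩
  let := (Subalgebra.isField_of_algebraic D).toField
  have : Module.Finite k D := Algebra.IsIntegral.finite
  have : Algebra.IsSeparable k D := Algebra.IsSeparable.of_algHom k S D.val
  let j := Algebra.TensorProduct.map (AlgHom.id k A) D.val
  have hj : Function.Injective j :=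
    Module.Flat.lTensor_preserves_injective_linearMap _ Subtype.val_injective
  change j z = e at hz
  have hzi : IsIdempotentElem z := hj (by rw [map_mul, hz]; exact he)
  rcases idemTrivial_tensor_of_finite_separable (L := k) hA φ (fun x _ => ⟨x, rfl⟩) D z hzi with h | h
  · exact Or.inl (by rw [← hz, h, map_zero])
  · exact Or.inr (by rw [← hz, h, map_one])

theorem idemTrivial_tensor_algebraic (hA : IdemTrivial A) (φ : A →ₐ[k] k) (K : Type u) [Field K] [Algebra k K]
    [Algebra.IsAlgebraic k K] : IdemTrivial (A ⊗[k] K) := by
  intro e he
  let q := ringExpChar k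
  haveI : ExpChar k q := inferInstance
  let S : IntermediateField k K := separableClosure k K
  haveI : IsPurelyInseparable S K := separableClosure.isPurelyInseparable k K
  haveI : Algebra.IsSeparable k S := separableClosure.isSeparable k K
  haveI : ExpChar S q := expChar_of_injective_algebraMap (algebraMap k S).injective q
  let j := Algebra.TensorProduct.map (AlgHom.id k A) S.val
  have : Nontrivial A := φ.toRingHom.domain_nontrivial
  have : Nontrivial (A ⊗[k] K) :=
    (Algebra.TensorProduct.includeLeft_injective (R := k) (S := k) (A := A) (B := K)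
      (algebraMap k K).injective).nontrivial
  haveI : ExpChar (A ⊗[k] K) q := expChar_of_injective_algebraMap (algebraMap k (A ⊗[k] K)).injective q
  have hpow : ∀ z : A ⊗[k] K, ∃ n, z ^ q ^ n ∈ j.range := by
    intro z
    induction z using TensorProduct.induction_on with
    | zero => exact ⟨0, by simp⟩
    | tmul a x =>
      obtain ⟨n, hn⟩ := IsPurelyInseparable.pow_mem S q x
      obtain ⟨s, hs⟩ := hn
      refine ⟨n, (a ^ q ^ n) ⊗ₜ[k] s, ?_⟩
      rw [Algebra.TensorProduct.tmul_pow, ← hs]
      rfl
    | add x y hx hy =>
      obtain ⟨n, hn⟩ := hx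
      obtain ⟨m, hm⟩ := hy
      refine ⟨n + m, ?_⟩
      rw [add_pow_expChar_pow]
      refine add_mem ?_ ?_
      · rw [pow_add, pow_mul]
        exact pow_mem hn _
      · rw [add_comm, pow_add, pow_mul]
        exact pow_mem hm _
  obtain ⟨n, z, hz⟩ := hpow e
  have hq : 0 < q ^ n := pow_pos (expChar_pos k q) n
  rw [← Nat.succ_pred_eq_of_pos hq, he.pow_succ_eq] at hz
  change j z = e at hz
  have hj : Function.Injective j :=
    Module.Flat.lTensor_preserves_injective_linearMap _ S.val.toRingHom.injective
  have hzi : IsIdempotentElem z := hj (by rw [map_mul, hz]; exact he)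
  rcases idemTrivial_tensor_separable hA φ S z hzi with h | h
  · exact Or.inl (by rw [← hz, h, map_zero])
  · exact Or.inr (by rw [← hz, h, map_one])

end Groth.Misc1.Unip.DimOne
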