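import Groth.Agent.Misc1.Unip.DimOne.Trace
import Groth.Agent.Misc1.Unip.Primitive

/-!
# One-dimensional connected groups are commutative
-/

set_option autoImplicit false
set_option linter.unusedSectionVars false

universe u v

open TensorProduct WithConv Groth.ComodLib

noncomputable section

namespace Groth.Misc1.Unip.DimOne

variable {k : Type u} [Field k] {A : Type v} [CommRing A] [HopfAlgebra k A]

/-- conjugation `x ↦ x g x⁻¹` -/
def conjHom (g : WithConv (A →ₐ[k] k)) : A →ₐ[k] A :=
  (toConv (AlgHom.id k A) * toConv ((Algebra.ofId k A).comp g.ofConv) *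
    toConv (HopfAlgebra.antipodeAlgHom k A)).ofConv

theorem comp_conjHom (g h : WithConv (A →ₐ[k] k)) :
    toConv (h.ofConv.comp (conjHom g)) = h * g * h⁻¹ := by
  have e1 := AlgHom.comp_convMul_distrib h.ofConv
    (toConv (AlgHom.id k A) * toConv ((Algebra.ofId k A).comp g.ofConv))
    (toConv (HopfAlgebra.antipodeAlgHom k A))
  have e2 := AlgHom.comp_convMul_distrib h.ofConv (toConv (AlgHom.id k A))
    (toConv ((Algebra.ofId k A).comp g.ofConv))
  have e3 : h.ofConv.comp ((Algebra.ofId k A).comp g.ofConv) = g.ofConv :=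
    AlgHom.ext fun a => h.ofConv.commutes _
  apply WithConv.ofConv_injective
  refine e1.trans ?_
  rw [e2, AlgHom.comp_id]
  simp only
  rw [e3]
  rfl

variable [IsAlgClosed k] [Algebra.FiniteType k A]

/-- commutativity of the group of points gives cocommutativity -/
theorem isCocomm_of_points [IsReduced A] (h : ∀ g g' : WithConv (A →ₐ[k] k), g * g' = g' * g) :
    Coalgebra.IsCocomm k A := by
  have : IsReduced (A ⊗[k] A) := Groth.VarietyBC.isReduced_tensor
  have : Algebra.FiniteType k (A ⊗[k] A) := Algebra.FiniteType.trans (S := A) ‹_› inferInstance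
  refine ⟨LinearMap.ext fun a => ?_⟩
  refine sub_eq_zero.1 (eq_zero_of_points (k := k) fun φ => ?_)
  rw [map_sub, sub_eq_zero]
  let g := φ.comp (Algebra.TensorProduct.includeLeft : A →ₐ[k] A ⊗[k] A)
  let g' := φ.comp (Algebra.TensorProduct.includeRight : A →ₐ[k] A ⊗[k] A)
  have hφ : φ = Algebra.TensorProduct.lift g g' (fun _ _ => Commute.all _ _) :=
    Algebra.TensorProduct.ext' fun x y => by simp [g, g', ← map_mul]
  have hc := AlgHom.convMul_apply (toConv g') (toConv g) a
  have hc' := AlgHom.convMul_apply (toConv g) (toConv g') a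
  rw [h] at hc'
  rw [hφ]
  refine (Eq.trans ?_ hc.symm).trans hc'
  simp only [LinearMap.comp_apply, LinearEquiv.coe_coe]
  generalize Coalgebra.comul (R := k) a = z
  induction z using TensorProduct.induction_on with
  | zero => simp
  | tmul p q => simp [mul_comm]
  | add p q hp hq => simp only [map_add, hp, hq]

/-- an affine connected group of dimension one is commutative -/
theorem isCocomm_of_dim_one [IsDomain A] (hdim : ringKrullDim A = 1) : Coalgebra.IsCocomm k A := by
  by_cases hc : ∀ g g' : WithConv (A →ₐ[k] k), g * g' = g' * g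
  · exact isCocomm_of_points hc
  exfalso
  push Not at hc
  obtain ⟨g, g', hgg'⟩ := hc
  set C := conjHom g
  have hinj : Function.Injective C := by
    rw [injective_iff_map_eq_zero]
    by_contra hne
    push Not at hne
    obtain ⟨a, ha, ha0⟩ := hne
    have hP : (RingHom.ker C).IsPrime := RingHom.ker_isPrime C
    have hmax := isMaximal_of_ne_bot hdim (P := RingHom.ker C)
      (fun e => ha0 ((Submodule.mem_bot A).1 (e ▸ (RingHom.mem_ker.2 ha : a ∈ RingHom.ker C))))
    obtain ⟨pt, hpt⟩ := exists_point_ker_eq (k := k) (RingHom.ker C)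
    have hC : ∀ b, C b = algebraMap k A (pt b) := by
      intro b
      have hb : b - algebraMap k A (pt b) ∈ RingHom.ker C := by
        rw [← hpt, RingHom.mem_ker, map_sub, AlgHom.commutes]
        exact sub_self _
      rwa [RingHom.mem_ker, map_sub, AlgHom.commutes, sub_eq_zero] at hb
    have hall : ∀ h : WithConv (A →ₐ[k] k), h * g * h⁻¹ = toConv pt := by
      intro h
      rw [← comp_conjHom]
      refine congrArg toConv (AlgHom.ext fun b => ?_)
      change h.ofConv (C b) = pt b
      rw [hC, AlgHom.commutes]
      rfl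
    have h1 : g = toConv pt := by
      have := hall 1
      rwa [one_mul, inv_one, mul_one] at this
    exact hgg' ((mul_inv_eq_iff_eq_mul.1 ((hall g').trans h1.symm))).symm
  have hfix : ∀ (f : A), (∀ h : WithConv (A →ₐ[k] k), (h * g * h⁻¹).ofConv f = g.ofConv f) →
      f = algebraMap k A (g.ofConv f) := by
    intro f hf
    refine hinj ?_
    rw [AlgHom.commutes]
    refine eq_algebraMap_of_points (k := k) fun h => ?_
    have h2 := congrArg (fun t : WithConv (A →ₐ[k] k) => t.ofConv f) (comp_conjHom g (toConv h))
    exact h2.trans (hf (toConv h))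
  have hU : HopfRep.IsUnipotent k A := by
    refine isUnipotent_of_simple fun V _ _ _ _ hV => ?_
    classical
    let b := Module.finBasis k V
    let χ : A := ∑ i, cf (A := A) (b.coord i) (b i)
    have hχ : ∀ φ : A →ₗ[k] k, φ χ = LinearMap.trace k V (op φ) := by
      intro φ
      rw [LinearMap.trace_eq_matrix_trace k b, map_sum, Matrix.trace]
      refine Finset.sum_congr rfl fun i _ => ?_
      rw [apply_cf, Matrix.diag_apply, LinearMap.toMatrix_apply]
      rfl
    have hclass : ∀ h : WithConv (A →ₐ[k] k), (h * g * h⁻¹).ofConv χ = g.ofConv χ := by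
      intro h
      have e : ∀ q : WithConv (A →ₐ[k] k), q.ofConv χ = LinearMap.trace k V (pointAct k A V q) :=
        fun q => hχ q.ofConv.toLinearMap
      rw [e, e, (pointAct k A V).map_mul, (pointAct k A V).map_mul, LinearMap.trace_mul_comm, ← mul_assoc,
        ← (pointAct k A V).map_mul, inv_mul_cancel, (pointAct k A V).map_one, one_mul]
    refine fixedPts_eq_top_of_trace hV (c := g.ofConv χ) fun φ => ?_
    rw [← hχ, hfix χ hclass, Algebra.algebraMap_eq_smul_one, map_smul, smul_eq_mul]
    simp
  obtain ⟨a, ha⟩ : ∃ a : A, a ∉ Submodule.span k {(1 : A)} := by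
    by_contra hne
    push Not at hne
    exact not_finite (k := k) hdim ⟨⟨{1}, by simpa using eq_top_iff.2 fun a _ => hne a⟩⟩
  obtain ⟨x, hx0, hx⟩ := exists_primitive_of_exhaustive (fun a => exists_mem_fixSeries hU a) ha
  have hadd : ∀ p q : WithConv (A →ₐ[k] k), (p * q).ofConv x = p.ofConv x + q.ofConv x := by
    intro p q
    rw [AlgHom.convMul_apply, hx]
    simp
  have hone : (1 : WithConv (A →ₐ[k] k)).ofConv x = 0 := by
    simp [counit_primitive hx]
  refine hx0 ?_
  have e := hfix x fun h => by
    have hi : h.ofConv x + (h⁻¹).ofConv x = 0 := by rw [← hadd, mul_inv_cancel, hone]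
    rw [hadd, hadd]
    linear_combination hi
  have e2 := congrArg (Bialgebra.counitAlgHom k A) e
  rw [AlgHom.commutes] at e2
  rw [e, show g.ofConv x = 0 from e2.symm.trans (counit_primitive hx), map_zero]

end Groth.Misc1.Unip.DimOne
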