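import Mathlib.FieldTheory.IsAlgClosed.Basic
import Mathlib.Data.Nat.Choose.Lucas
import Mathlib.Algebra.Polynomial.Roots
import Mathlib.Algebra.CharP.Lemmas
import Mathlib.Algebra.CharP.Algebra
import Mathlib.Algebra.MvPolynomial.Funext

/-!
# `p`-polynomials and additive cocycles
-/

set_option autoImplicit false

universe u v w

open Polynomial

noncomputable section

namespace Groth.Misc1.Unip.DimOne

variable {k : Type u} [Field k] (p : ℕ)

section PP

variable {R : Type v} [CommRing R] [Algebra k R] {S : Type w} [CommRing S] [Algebra k S]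

/-- the `p`-polynomial with coefficients `a 0, …, a m` -/
def pp (a : ℕ → k) (m : ℕ) (u : R) : R := ∑ i ∈ Finset.range (m + 1), a i • u ^ p ^ i

variable {p}

theorem map_pp (f : R →ₐ[k] S) (a : ℕ → k) (m : ℕ) (u : R) : f (pp p a m u) = pp p a m (f u) := by
  simp [pp, map_sum]

variable [Fact p.Prime] [CharP R p]

theorem pp_add (a : ℕ → k) (m : ℕ) (u v : R) : pp p a m (u + v) = pp p a m u + pp p a m v := by
  simp only [pp, add_pow_char_pow, smul_add, Finset.sum_add_distrib]

theorem pp_sub (a : ℕ → k) (m : ℕ) (u v : R) : pp p a m (u - v) = pp p a m u - pp p a m v := by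
  simp only [pp, sub_pow_char_pow, smul_sub, Finset.sum_sub_distrib]

end PP

variable {p} [hp : Fact p.Prime]

/-- a number all of whose inner binomial coefficients vanish mod `p` is a power of `p` -/
theorem exists_eq_pow_of_choose [CharP k p] {n : ℕ} (hn : 0 < n)
    (h : ∀ i, 0 < i → i < n → (n.choose i : k) = 0) : ∃ e, n = p ^ e := by
  obtain ⟨e, r, hr, rfl⟩ := Nat.exists_eq_pow_mul_and_not_dvd (by omega : n ≠ 0) p hp.out.ne_one
  refine ⟨e, ?_⟩
  by_contra hne
  have hr1 : 1 < r := by
    rcases r with _ | _ | r
    · simp at hn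
    · simp at hne
    · omega
  have hmod : ∀ e : ℕ, (p ^ e * r).choose (p ^ e) ≡ r [MOD p] := by
    intro e
    induction e with
    | zero => simp [Nat.ModEq]
    | succ e ih =>
      have h2 := Choose.choose_mul_mul_modEq_choose_nat (p := p) (a := p ^ e * r) (b := p ^ e)
      rw [pow_succ', mul_assoc]
      exact h2.trans ih
  have h0 := h (p ^ e) (pow_pos hp.out.pos e) (lt_mul_of_one_lt_right (pow_pos hp.out.pos e) hr1)
  rw [CharP.cast_eq_zero_iff k p] at h0
  exact hr ((Nat.modEq_zero_iff_dvd).1 ((hmod e).symm.trans (Nat.modEq_zero_iff_dvd.2 h0)))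

/-- the coboundary of a one-variable polynomial -/
def cobound (f : k[X]) : MvPolynomial (Fin 2) k :=
  Polynomial.aeval (MvPolynomial.X 0 + MvPolynomial.X 1) f - Polynomial.aeval (MvPolynomial.X 0) f -
    Polynomial.aeval (MvPolynomial.X 1) f

theorem cobound_sub (f g : k[X]) : cobound (f - g) = cobound f - cobound g := by
  simp only [cobound, map_sub]
  ring

theorem constantCoeff_cobound (f : k[X]) :
    MvPolynomial.constantCoeff (cobound f) = - f.coeff 0 := by
  have e : ∀ s : MvPolynomial (Fin 2) k, MvPolynomial.aeval (fun _ => (0 : k)) s =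
      MvPolynomial.constantCoeff s := fun s => by simp
  rw [← e]
  simp only [cobound, map_sub, ← Polynomial.aeval_algHom_apply, map_add, MvPolynomial.aeval_X, add_zero]
  simp [Polynomial.coeff_zero_eq_eval_zero]

variable [CharP k p]

theorem natDegree_pp {a : ℕ → k} {m : ℕ} (ha : a m ≠ 0) (g : k[X]) :
    (pp p a m g).natDegree = p ^ m * g.natDegree := by
  rcases Nat.eq_zero_or_pos g.natDegree with h0 | hpos
  · rw [h0, mul_zero]
    obtain ⟨c, rfl⟩ : ∃ c, g = C c := ⟨_, Polynomial.eq_C_of_natDegree_eq_zero h0⟩
    have : pp p a m (C c) = C (pp p a m c) := (map_pp (Polynomial.CAlgHom : k →ₐ[k] k[X]) a m c).symm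
    rw [this, natDegree_C]
  refine natDegree_eq_of_le_of_coeff_ne_zero (natDegree_sum_le_of_forall_le _ _ fun i hi => ?_) ?_
  · refine (natDegree_smul_le _ _).trans (natDegree_pow_le.trans ?_)
    exact Nat.mul_le_mul_right _ (Nat.pow_le_pow_right hp.out.pos (Nat.lt_succ_iff.1 (Finset.mem_range.1 hi)))
  · rw [pp, finsetSum_coeff, Finset.sum_eq_single m]
    · rw [coeff_smul, smul_eq_mul, coeff_pow_mul_natDegree]
      exact mul_ne_zero ha (pow_ne_zero _ (leadingCoeff_ne_zero.2 fun e => by simp [e] at hpos))
    · intro i hi him
      rw [coeff_smul, coeff_eq_zero_of_natDegree_lt, smul_zero]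
      refine natDegree_pow_le.trans_lt (Nat.mul_lt_mul_of_pos_right ?_ hpos)
      exact Nat.pow_lt_pow_right hp.out.one_lt (lt_of_le_of_ne (Nat.lt_succ_iff.1 (Finset.mem_range.1 hi)) him)
    · intro hm
      exact absurd (Finset.self_mem_range_succ m) hm

theorem cobound_pp (a : ℕ → k) (m : ℕ) (g : k[X]) : cobound (pp p a m g) = pp p a m (cobound g) := by
  haveI : CharP (MvPolynomial (Fin 2) k) p := charP_of_injective_algebraMap (algebraMap k _).injective p
  simp only [cobound, map_pp, pp_sub]

variable [IsAlgClosed k]

/-- a cocycle killed modulo coboundaries by a `p`-polynomial is a coboundary -/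
theorem exists_cobound {a : ℕ → k} {m : ℕ} (ha : a m ≠ 0) :
    ∀ (f : k[X]) (c : MvPolynomial (Fin 2) k), MvPolynomial.constantCoeff c = 0 →
      pp p a m c = cobound f → ∃ h : k[X], c = cobound h := by
  classical
  haveI : CharP (MvPolynomial (Fin 2) k) p := charP_of_injective_algebraMap (algebraMap k _).injective p
  haveI : CharP k[X] p := charP_of_injective_algebraMap (algebraMap k _).injective p
  intro f
  induction hd : f.natDegree using Nat.strong_induction_on generalizing f with
  | _ d ih =>
    subst hd
    intro c hc0 hc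
    set d := f.natDegree with hd
    by_cases hdiv : 0 < d ∧ p ^ m ∣ d
    · obtain ⟨hd0, s, hs⟩ := hdiv
      have hs0 : 0 < s := Nat.pos_of_ne_zero fun e => by
        rw [e, mul_zero] at hs
        omega
      obtain ⟨r, hr⟩ := IsAlgClosed.exists_pow_nat_eq (f.leadingCoeff / a m) (pow_pos hp.out.pos m)
      have hr0 : r ≠ 0 := fun e => by
        have hf : f.leadingCoeff ≠ 0 := leadingCoeff_ne_zero.2 fun e => by simp [hd, e] at hd0
        rw [e, zero_pow (pow_pos hp.out.pos m).ne'] at hr
        exact div_ne_zero hf ha hr.symm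
      let h₀ : k[X] := monomial s r
      have hdeg : (pp p a m h₀).natDegree = d := by
        rw [natDegree_pp ha, natDegree_monomial_eq s hr0, hs]
      have hcoeff : (pp p a m h₀).coeff d = f.leadingCoeff := by
        rw [pp, finsetSum_coeff, Finset.sum_eq_single m]
        · rw [coeff_smul, monomial_pow, coeff_monomial, if_pos (by rw [hs, mul_comm]), hr, smul_eq_mul,
            mul_div_cancel₀ _ ha]
        · intro i hi him
          have hne : s * p ^ i ≠ d := by
            rw [hs, mul_comm (p ^ m) s]
            exact fun e => him (Nat.pow_right_injective hp.out.two_le (Nat.eq_of_mul_eq_mul_left hs0 e))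
          rw [coeff_smul, monomial_pow, coeff_monomial, if_neg hne, smul_zero]
        · intro hm
          exact absurd (Finset.self_mem_range_succ m) hm
      have hlt : (f - pp p a m h₀).natDegree < d := by
        refine lt_of_le_of_ne ((natDegree_sub_le _ _).trans (by rw [hdeg, ← hd, max_self])) fun e => ?_
        have hz : (f - pp p a m h₀).leadingCoeff = 0 := by
          rw [leadingCoeff, e, coeff_sub, hcoeff, hd, coeff_natDegree, sub_self]
        rw [leadingCoeff_eq_zero] at hz
        rw [hz, natDegree_zero] at e
        omega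
      have hh0 : h₀.coeff 0 = 0 := by rw [coeff_monomial, if_neg hs0.ne']
      obtain ⟨h, hh⟩ := ih _ hlt (f - pp p a m h₀) rfl (c - cobound h₀)
        (by rw [map_sub, hc0, constantCoeff_cobound, hh0, neg_zero, sub_zero])
        (by rw [pp_sub, hc, cobound_sub, cobound_pp])
      exact ⟨h + h₀, by rw [← add_sub_cancel_right h h₀] at hh; rw [cobound_sub] at hh; exact sub_left_inj.1 hh⟩
    · refine ⟨0, ?_⟩
      rw [show cobound (0 : k[X]) = 0 by simp [cobound]]
      have hline : ∀ t : k, MvPolynomial.aeval ![X, C t * X] c = (0 : k[X]) := by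
        intro t
        set ct := MvPolynomial.aeval ![X, C t * X] c with hct
        have heq : pp p a m ct = f.comp (C (1 + t) * X) - f - f.comp (C t * X) := by
          rw [hct, ← map_pp, hc]
          simp only [cobound, map_sub, ← Polynomial.aeval_algHom_apply, map_add, MvPolynomial.aeval_X,
            Matrix.cons_val_zero, Matrix.cons_val_one, Matrix.cons_val_fin_one, ← comp_eq_aeval, comp_X]
          rw [C_1, add_mul, one_mul]
        have hcoef : ∀ (s : k) (i : ℕ), (f.comp (C s * X)).coeff i = f.coeff i * s ^ i := fun s i => by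
          rw [comp_C_mul_X_coeff]
        have hle : p ^ m * ct.natDegree ≤ d := by
          rw [← natDegree_pp ha ct, heq]
          refine natDegree_le_iff_coeff_eq_zero.2 fun i hi => ?_
          rw [coeff_sub, coeff_sub, hcoef, hcoef, coeff_eq_zero_of_natDegree_lt (hd ▸ hi : f.natDegree < i)]; ring
        have he : ct.natDegree = 0 := by
          by_contra he
          have hd0 : 0 < d := lt_of_lt_of_le (Nat.mul_pos (pow_pos hp.out.pos m) (Nat.pos_of_ne_zero he)) hle
          have hndvd : ¬ p ^ m ∣ d := fun h => hdiv ⟨hd0, h⟩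
          have hzero : ∀ s : k, f.coeff d * ((1 + s) ^ d - 1 - s ^ d) = 0 := by
            intro s
            set cs := MvPolynomial.aeval ![X, C s * X] c with hcs
            have hes : pp p a m cs = f.comp (C (1 + s) * X) - f - f.comp (C s * X) := by
              rw [hcs, ← map_pp, hc]
              simp only [cobound, map_sub, ← Polynomial.aeval_algHom_apply, map_add, MvPolynomial.aeval_X,
                Matrix.cons_val_zero, Matrix.cons_val_one, Matrix.cons_val_fin_one, ← comp_eq_aeval, comp_X]
              rw [C_1, add_mul, one_mul]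
            have h1 : (pp p a m cs).coeff d = f.coeff d * ((1 + s) ^ d - 1 - s ^ d) := by
              rw [hes, coeff_sub, coeff_sub, hcoef, hcoef]
              ring
            rw [← h1]
            refine coeff_eq_zero_of_natDegree_lt (lt_of_le_of_ne ?_ ?_)
            · rw [hes]
              refine natDegree_le_iff_coeff_eq_zero.2 fun i hi => ?_
              rw [coeff_sub, coeff_sub, hcoef, hcoef, coeff_eq_zero_of_natDegree_lt (hd ▸ hi : f.natDegree < i)]; ring
            · rw [natDegree_pp ha]
              exact fun e => hndvd ⟨_, e.symm⟩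
          have hpoly : ((X + 1) ^ d - 1 - X ^ d : k[X]) = 0 := by
            refine Polynomial.funext fun s => ?_
            rcases mul_eq_zero.1 (hzero s) with h | h
            · rw [hd, coeff_natDegree, leadingCoeff_eq_zero] at h
              simp [hd, h] at hd0
            · simp only [eval_sub, eval_pow, eval_add, eval_X, eval_one, eval_zero]
              rwa [add_comm]
          obtain ⟨j, hj⟩ := exists_eq_pow_of_choose (k := k) (p := p) hd0 fun i hi0 hid => by
            have := congrArg (fun q => Polynomial.coeff q i) hpoly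
            simpa [coeff_X_add_one_pow, hi0.ne', hid.ne, coeff_one] using this
          have hjm : j < m := by
            by_contra hjm
            exact hndvd (hj ▸ pow_dvd_pow p (not_lt.1 hjm))
          have h3 : p ^ m * 1 ≤ p ^ j := hj ▸ le_trans (Nat.mul_le_mul_left _ (Nat.pos_of_ne_zero he)) hle
          rw [mul_one] at h3
          exact absurd h3 (not_le.2 (Nat.pow_lt_pow_right hp.out.one_lt hjm))
        rw [Polynomial.eq_C_of_natDegree_eq_zero he, coeff_zero_eq_eval_zero]
        have e0 : (Polynomial.aeval (0 : k)).comp (MvPolynomial.aeval ![X, C t * X]) =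
            (MvPolynomial.aeval fun _ => (0 : k) : MvPolynomial (Fin 2) k →ₐ[k] k) :=
          MvPolynomial.algHom_ext fun i => by fin_cases i <;> simp
        have e1 := DFunLike.congr_fun e0 c
        rw [AlgHom.comp_apply, ← hct, coe_aeval_eq_eval] at e1
        rw [e1, show MvPolynomial.aeval (fun _ => (0 : k)) c = MvPolynomial.constantCoeff c by simp, hc0, map_zero]
      have hmul : c * MvPolynomial.X 0 = 0 := MvPolynomial.funext fun x => by
        rcases eq_or_ne (x 0) 0 with h | h
        · simp [h]
        · have h1 := congrArg (Polynomial.aeval (x 0)) (hline (x 1 / x 0))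
          have hx : (Polynomial.aeval (x 0)).comp (MvPolynomial.aeval ![X, C (x 1 / x 0) * X]) =
              (MvPolynomial.aeval x : MvPolynomial (Fin 2) k →ₐ[k] k) :=
            MvPolynomial.algHom_ext fun i => by fin_cases i <;> simp [h]
          rw [map_zero, ← AlgHom.comp_apply, hx] at h1
          simp only [map_mul, map_zero, MvPolynomial.eval_X]
          rw [show MvPolynomial.eval x c = 0 from h1, zero_mul]
      exact (mul_eq_zero.1 hmul).resolve_right (MvPolynomial.X_ne_zero 0)

end Groth.Misc1.Unip.DimOne
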