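import Groth.Agent.Misc1.Unip.DimOne.Basic
import Groth.Agent.Misc1.Unip.DimOne.Additive
import Groth.Agent.Misc1.Unip.Primitive
import Groth.Agent.Misc1.Unip.Quotient

/-!
# A one-dimensional connected commutative unipotent group is generated by one primitive element
-/

set_option autoImplicit false
set_option linter.unusedSectionVars false

universe u v

open TensorProduct WithConv Groth.ComodLib

noncomputable section

namespace Groth.Misc1.Unip.DimOne

variable {k : Type u} [Field k] [IsAlgClosed k] {A : Type v} [CommRing A] [IsDomain A] [HopfAlgebra k A]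

variable (k) in
/-- the primitive elements -/
def IsPrim (x : A) : Prop := Coalgebra.comul (R := k) x = x ⊗ₜ[k] (1 : A) + (1 : A) ⊗ₜ[k] x

theorem isPrim_zero : IsPrim k (0 : A) := by simp [IsPrim]

theorem eq_zero_of_aeval_eq_zero {x : A} (hx : IsPrim k x) :
    ∀ (f : Polynomial k), f ≠ 0 → Polynomial.aeval x f = 0 → x = 0 := by
  intro f
  induction hd : f.natDegree using Nat.strong_induction_on generalizing f with
  | _ d ih =>
    subst hd
    intro hf0 hf
    rcases Nat.eq_zero_or_pos f.natDegree with h0 | hpos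
    · rw [Polynomial.eq_C_of_natDegree_eq_zero h0, Polynomial.aeval_C] at hf
      exact absurd (by rw [Polynomial.eq_C_of_natDegree_eq_zero h0, (map_eq_zero_iff _ (algebraMap k A).injective).1 hf, map_zero]) hf0
    · obtain ⟨r, hr⟩ := IsAlgClosed.exists_root f fun e => by
        rw [Polynomial.degree_eq_natDegree hf0] at e
        exact hpos.ne' (by exact_mod_cast e)
      obtain ⟨g, rfl⟩ := Polynomial.dvd_iff_isRoot.2 hr
      have hg0 : g ≠ 0 := fun e => hf0 (by rw [e, mul_zero])
      rw [map_mul, mul_eq_zero] at hf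
      rcases hf with h | h
      · rw [map_sub, Polynomial.aeval_X, Polynomial.aeval_C, sub_eq_zero] at h
        have h1 := counit_primitive (k := k) hx
        rw [h, Bialgebra.counit_algebraMap] at h1
        rw [h, h1, map_zero]
      · refine ih _ ?_ g rfl hg0 h
        rw [Polynomial.natDegree_mul (Polynomial.X_sub_C_ne_zero r) hg0, Polynomial.natDegree_X_sub_C]
        omega

theorem aeval_injective {x : A} (hx : IsPrim k x) (hx0 : x ≠ 0) :
    Function.Injective (Polynomial.aeval x : Polynomial k →ₐ[k] A) :=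
  (injective_iff_map_eq_zero _).2 fun f hf => by_contra fun hne => hx0 (eq_zero_of_aeval_eq_zero hx f hne hf)

/-- coordinates along the powers of a primitive element -/
theorem exists_coord {x : A} (hx : IsPrim k x) (hx0 : x ≠ 0) :
    ∃ L : ℕ → A →ₗ[k] k, ∀ i j, L i (x ^ j) = if j = i then 1 else 0 := by
  obtain ⟨π, hπ⟩ := (Polynomial.aeval x : Polynomial k →ₐ[k] A).toLinearMap.exists_leftInverse_of_injective
    (LinearMap.ker_eq_bot.2 (aeval_injective hx hx0))
  refine ⟨fun i => Polynomial.lcoeff k i ∘ₗ π, fun i j => ?_⟩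
  have h := LinearMap.congr_fun hπ (Polynomial.X ^ j)
  simp only [LinearMap.comp_apply, AlgHom.toLinearMap_apply, map_pow, Polynomial.aeval_X,
    LinearMap.id_apply] at h
  rw [LinearMap.comp_apply, h, Polynomial.lcoeff_apply, Polynomial.coeff_X_pow]
  simp [eq_comm]

variable (k) in
/-- polynomials in the two copies of `x` inside `A ⊗ A` -/
def biEval (x : A) : MvPolynomial (Fin 2) k →ₐ[k] A ⊗[k] A :=
  MvPolynomial.aeval ![x ⊗ₜ[k] (1 : A), (1 : A) ⊗ₜ[k] x]

theorem biEval_injective {x : A} (hx : IsPrim k x) (hx0 : x ≠ 0) : Function.Injective (biEval k x) := by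
  obtain ⟨L, hL⟩ := exists_coord hx hx0
  rw [injective_iff_map_eq_zero]
  intro C hC
  ext d
  rw [MvPolynomial.coeff_zero]
  have h := congrArg (fun z => TensorProduct.lid k k (TensorProduct.map (L (d 0)) (L (d 1)) z)) hC
  simp only [map_zero] at h
  rw [biEval, C.as_sum, map_sum, map_sum, map_sum] at h
  rw [Finset.sum_eq_single d] at h
  · rw [MvPolynomial.aeval_monomial, Finsupp.prod_fintype _ _ (by simp)] at h
    simpa [Fin.prod_univ_two, Algebra.TensorProduct.tmul_pow, hL, Algebra.algebraMap_eq_smul_one,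
      Algebra.TensorProduct.one_def, smul_mul_assoc, TensorProduct.smul_tmul'] using h
  · intro e _ hed
    rw [MvPolynomial.aeval_monomial, Finsupp.prod_fintype _ _ (by simp)]
    simp [Fin.prod_univ_two, Algebra.TensorProduct.tmul_pow, hL, Algebra.algebraMap_eq_smul_one,
      TensorProduct.smul_tmul']
    by_contra hne
    push Not at hne
    refine hed (Finsupp.ext fun i => ?_)
    fin_cases i <;> simp_all
  · intro hd
    rw [MvPolynomial.notMem_support_iff.1 hd]
    simp

theorem comul_aeval {x : A} (hx : IsPrim k x) (f : Polynomial k) :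
    Coalgebra.comul (R := k) (Polynomial.aeval x f) =
      biEval k x (Polynomial.aeval (MvPolynomial.X 0 + MvPolynomial.X 1) f) := by
  rw [← Bialgebra.comulAlgHom_apply, ← Polynomial.aeval_algHom_apply, ← Polynomial.aeval_algHom_apply]
  congr 2
  rw [Bialgebra.comulAlgHom_apply, hx]
  simp [biEval]

theorem biEval_aeval_left (x : A) (f : Polynomial k) :
    biEval k x (Polynomial.aeval (MvPolynomial.X 0) f) = Polynomial.aeval x f ⊗ₜ[k] (1 : A) := by
  rw [← Polynomial.aeval_algHom_apply, show biEval k x (MvPolynomial.X 0) =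
    (Algebra.TensorProduct.includeLeft : A →ₐ[k] A ⊗[k] A) x by simp [biEval], Polynomial.aeval_algHom_apply]
  rfl

theorem biEval_aeval_right (x : A) (f : Polynomial k) :
    biEval k x (Polynomial.aeval (MvPolynomial.X 1) f) = (1 : A) ⊗ₜ[k] Polynomial.aeval x f := by
  rw [← Polynomial.aeval_algHom_apply, show biEval k x (MvPolynomial.X 1) =
    (Algebra.TensorProduct.includeRight : A →ₐ[k] A ⊗[k] A) x by simp [biEval], Polynomial.aeval_algHom_apply]
  rfl

theorem comul_aeval_sub {x : A} (hx : IsPrim k x) (f : Polynomial k) :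
    Coalgebra.comul (R := k) (Polynomial.aeval x f) - Polynomial.aeval x f ⊗ₜ[k] (1 : A) -
      (1 : A) ⊗ₜ[k] Polynomial.aeval x f = biEval k x (cobound f) := by
  rw [cobound, map_sub, map_sub, comul_aeval hx, biEval_aeval_left, biEval_aeval_right]

theorem biEval_range_mono {x z : A} (h : x ∈ Algebra.adjoin k {z}) :
    (biEval k x).range ≤ (biEval k z).range := by
  rw [Algebra.adjoin_singleton_eq_range_aeval] at h
  obtain ⟨f, rfl⟩ := h
  rintro _ ⟨C, rfl⟩
  refine ⟨MvPolynomial.aeval ![Polynomial.aeval (MvPolynomial.X 0) f,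
    Polynomial.aeval (MvPolynomial.X 1) f] C, ?_⟩
  change biEval k z _ = _
  rw [← AlgHom.comp_apply]
  refine DFunLike.congr_fun (MvPolynomial.algHom_ext fun i => ?_) C
  rw [AlgHom.comp_apply, MvPolynomial.aeval_X]
  fin_cases i
  · exact (biEval_aeval_left z f).trans (by simp [biEval])
  · exact (biEval_aeval_right z f).trans (by simp [biEval])

variable {p : ℕ} [hp : Fact p.Prime] [CharP k p]

theorem charP_tensor (k : Type u) [Field k] [IsAlgClosed k] (A : Type v) [CommRing A] [IsDomain A]
    [Algebra k A] (p : ℕ) [CharP k p] : CharP (A ⊗[k] A) p :=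
  haveI : IsDomain (A ⊗[k] A) := Groth.VarietyBC.isDomain_tensor
  charP_of_injective_algebraMap (algebraMap k (A ⊗[k] A)).injective p

theorem charP_alg (k : Type u) [Field k] (A : Type v) [CommRing A] [IsDomain A]
    [Algebra k A] (p : ℕ) [CharP k p] : CharP A p :=
  charP_of_injective_algebraMap (algebraMap k A).injective p

theorem comul_pp (a : ℕ → k) (m : ℕ) (u : A) :
    Coalgebra.comul (R := k) (pp p a m u) = pp p a m (Coalgebra.comul (R := k) u) :=
  map_pp (Bialgebra.comulAlgHom k A) a m u

theorem isPrim_pp {x : A} (hx : IsPrim k x) (a : ℕ → k) (m : ℕ) : IsPrim k (pp p a m x) := by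
  have := charP_tensor k A p
  unfold IsPrim at hx ⊢
  rw [comul_pp, hx, pp_add]
  rw [show x ⊗ₜ[k] (1 : A) = (Algebra.TensorProduct.includeLeft : A →ₐ[k] A ⊗[k] A) x from rfl,
    show (1 : A) ⊗ₜ[k] x = (Algebra.TensorProduct.includeRight : A →ₐ[k] A ⊗[k] A) x from rfl,
    ← map_pp, ← map_pp]
  rfl

/-- a polynomial in a primitive element which is primitive is a `p`-polynomial -/
theorem exists_pp_of_isPrim {x : A} (hx : IsPrim k x) (hx0 : x ≠ 0) {f : Polynomial k} (hf : f ≠ 0)
    (hfx : IsPrim k (Polynomial.aeval x f)) :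
    ∃ (b : ℕ → k) (l : ℕ), b l ≠ 0 ∧ Polynomial.aeval x f = pp p b l x := by
  classical
  have hcb : cobound f = 0 := by
    refine biEval_injective hx hx0 ?_
    rw [map_zero, ← comul_aeval_sub hx, hfx]
    abel
  have h0 : f.coeff 0 = 0 := by
    have h := constantCoeff_cobound f
    rwa [hcb, map_zero, eq_comm, neg_eq_zero] at h
  have hsupp : ∀ n, f.coeff n ≠ 0 → ∃ e, n = p ^ e := by
    intro n hn
    have hn0 : 0 < n := Nat.pos_of_ne_zero fun e => hn (e ▸ h0)
    refine exists_eq_pow_of_choose (k := k) hn0 fun i hi0 hin => ?_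
    -- evaluate on the line `(1, s)`
    have hpoly : (Polynomial.X + 1) ^ n - 1 - Polynomial.X ^ n = (0 : Polynomial k) := by
      refine Polynomial.funext fun s => ?_
      have h := congrArg (MvPolynomial.aeval ![(Polynomial.X : Polynomial k), Polynomial.C s * Polynomial.X]) hcb
      simp only [cobound, map_sub, ← Polynomial.aeval_algHom_apply, map_add, MvPolynomial.aeval_X,
        Matrix.cons_val_zero, Matrix.cons_val_one, Matrix.cons_val_fin_one, map_zero] at h
      rw [← Polynomial.comp_eq_aeval, ← Polynomial.comp_eq_aeval, ← Polynomial.comp_eq_aeval, Polynomial.comp_X,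
        show Polynomial.X + Polynomial.C s * Polynomial.X = Polynomial.C (1 + s) * (Polynomial.X : Polynomial k) by
          rw [Polynomial.C_add, Polynomial.C_1]; ring] at h
      have h2 := congrArg (fun q => Polynomial.coeff q n) h
      simp only [Polynomial.coeff_sub, Polynomial.comp_C_mul_X_coeff, Polynomial.coeff_zero] at h2
      have h3 : f.coeff n * ((1 + s) ^ n - 1 - s ^ n) = 0 := by rw [← h2]; ring
      simp only [Polynomial.eval_sub, Polynomial.eval_pow, Polynomial.eval_add, Polynomial.eval_X,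
        Polynomial.eval_one, Polynomial.eval_zero]
      rw [add_comm]
      exact (mul_eq_zero.1 h3).resolve_left hn
    have := congrArg (fun q => Polynomial.coeff q i) hpoly
    simpa [Polynomial.coeff_X_add_one_pow, hi0.ne', hin.ne, Polynomial.coeff_one] using this
  obtain ⟨l, hl⟩ := hsupp f.natDegree (by rwa [Polynomial.coeff_natDegree, Polynomial.leadingCoeff_ne_zero])
  refine ⟨fun i => f.coeff (p ^ i), l, ?_, ?_⟩
  · dsimp only
    rw [← hl, Polynomial.coeff_natDegree]
    exact Polynomial.leadingCoeff_ne_zero.2 hf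
  · rw [Polynomial.aeval_eq_sum_range, pp]
    symm
    rw [← Finset.sum_image (f := fun n => f.coeff n • x ^ n) (g := fun i => p ^ i)
      fun i _ j _ e => Nat.pow_right_injective hp.out.two_le e]
    refine Finset.sum_subset (fun n hn => ?_) fun n hn hn' => ?_
    · obtain ⟨i, hi, rfl⟩ := Finset.mem_image.1 hn
      rw [Finset.mem_range, hl, Nat.lt_succ_iff]
      exact Nat.pow_le_pow_right hp.out.pos (Nat.lt_succ_iff.1 (Finset.mem_range.1 hi))
    · rcases eq_or_ne (f.coeff n) 0 with h | h
      · rw [h, zero_smul]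
      · obtain ⟨e, rfl⟩ := hsupp n h
        refine absurd (Finset.mem_image.2 ⟨e, Finset.mem_range.2 (Nat.lt_succ_iff.2 ?_), rfl⟩) hn'
        refine (Nat.pow_le_pow_iff_right hp.out.one_lt).1 ?_
        rw [← hl]
        exact Polynomial.le_natDegree_of_ne_zero h

/-- one step of the Euclidean algorithm -/
theorem exists_common_of_relation_aux (N : ℕ)
    (ih : ∀ N' < N, ∀ (x y : A) (m l : ℕ) (a b : ℕ → k), IsPrim k x → IsPrim k y →
      a m ≠ 0 → b l ≠ 0 → m + l ≤ N' → pp p a m x = pp p b l y →
        ∃ z, IsPrim k z ∧ x ∈ Algebra.adjoin k {z} ∧ y ∈ Algebra.adjoin k {z})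
    (x y : A) (m l : ℕ) (a b : ℕ → k) (hx : IsPrim k x) (hy : IsPrim k y) (ha : a m ≠ 0) (hb : b l ≠ 0)
    (hN : m + l ≤ N) (hlm : l ≤ m) (hrel : pp p a m x = pp p b l y) :
    ∃ z, IsPrim k z ∧ x ∈ Algebra.adjoin k {z} ∧ y ∈ Algebra.adjoin k {z} := by
  classical
  have := charP_alg k A p
  obtain ⟨c, hc⟩ := IsAlgClosed.exists_pow_nat_eq (- a m / b l) (pow_pos hp.out.pos l)
  set e := m - l with he
  set y' := y + c • x ^ p ^ e with hy'
  have hy'P : IsPrim k y' := by
    have hs := isPrim_pp (p := p) hx (fun i => if i = e then c else 0) e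
    have e1 : pp p (fun i => if i = e then c else 0) e x = c • x ^ p ^ e := by
      rw [pp, Finset.sum_eq_single e]
      · simp
      · intro i _ hi; simp [hi]
      · intro h; exact absurd (Finset.self_mem_range_succ e) h
    rw [e1] at hs
    unfold IsPrim at hy hs ⊢
    rw [hy', map_add, hy, hs, TensorProduct.add_tmul, TensorProduct.tmul_add]
    abel
  let a' : ℕ → k := fun i => a i + if e ≤ i then b (i - e) * c ^ p ^ (i - e) else 0
  have hsum : pp p a' m x = pp p b l y' := by
    rw [hy', pp_add, ← hrel, pp, pp, pp]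
    simp only [a', add_smul, Finset.sum_add_distrib]
    congr 1
    rw [show m + 1 = e + (l + 1) by omega, Finset.sum_range_add,
      Finset.sum_eq_zero (fun i hi => by rw [if_neg (not_le.2 (Finset.mem_range.1 hi)), zero_smul]), zero_add]
    refine Finset.sum_congr rfl fun j _ => ?_
    rw [if_pos (Nat.le_add_right e j), Nat.add_sub_cancel_left, smul_pow, ← pow_mul, ← pow_add, smul_smul]
  have htop : a' m = 0 := by
    simp only [a', if_pos (show e ≤ m by omega), show m - e = l by omega, hc]
    field_simp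
    ring
  have hyx : ∀ z : A, x ∈ Algebra.adjoin k {z} → y' ∈ Algebra.adjoin k {z} → y ∈ Algebra.adjoin k {z} := by
    intro z hxz hyz
    rw [show y = y' - c • x ^ p ^ e by rw [hy']; abel]
    exact sub_mem hyz (Subalgebra.smul_mem _ (pow_mem hxz _) c)
  by_cases hall : ∀ i, i ≤ m → a' i = 0
  · have h0 : pp p b l y' = 0 := by
      rw [← hsum, pp]
      exact Finset.sum_eq_zero fun i hi => by rw [hall i (Nat.lt_succ_iff.1 (Finset.mem_range.1 hi)), zero_smul]
    let g : Polynomial k := pp p b l Polynomial.X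
    haveI : CharP (Polynomial k) p := charP_of_injective_algebraMap (algebraMap k _).injective p
    have hg : g ≠ 0 := fun e0 => by
      have := natDegree_pp (p := p) hb (Polynomial.X : Polynomial k)
      rw [show pp p b l (Polynomial.X : Polynomial k) = g from rfl, e0, Polynomial.natDegree_zero,
        Polynomial.natDegree_X, mul_one] at this
      exact (pow_pos hp.out.pos l).ne this
    have hyz : y' = 0 := eq_zero_of_aeval_eq_zero hy'P g hg (by rw [map_pp, Polynomial.aeval_X, h0])
    exact ⟨x, hx, Algebra.subset_adjoin rfl, hyx x (Algebra.subset_adjoin rfl) (hyz ▸ zero_mem _)⟩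
  · push Not at hall
    obtain ⟨i₀, hi₀, hi₀'⟩ := hall
    have hne : ((Finset.range (m + 1)).filter fun i => a' i ≠ 0).Nonempty :=
      ⟨i₀, Finset.mem_filter.2 ⟨Finset.mem_range.2 (Nat.lt_succ_iff.2 hi₀), hi₀'⟩⟩
    set m' := ((Finset.range (m + 1)).filter fun i => a' i ≠ 0).max' hne with hm'
    obtain ⟨hm'1, hm'2⟩ := Finset.mem_filter.1 (Finset.max'_mem _ hne)
    rw [← hm'] at hm'1 hm'2
    have hm'lt : m' < m := lt_of_le_of_ne (Nat.lt_succ_iff.1 (Finset.mem_range.1 hm'1)) fun e0 => hm'2 (e0 ▸ htop)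
    have hcut : pp p a' m' x = pp p a' m x := by
      refine Finset.sum_subset (fun i hi => Finset.mem_range.2 ?_) fun i hi hi' => ?_
      · have := Finset.mem_range.1 hi; omega
      · rcases eq_or_ne (a' i) 0 with h | h
        · rw [h, zero_smul]
        · have := Finset.le_max' ((Finset.range (m + 1)).filter fun i => a' i ≠ 0) i (Finset.mem_filter.2 ⟨hi, h⟩)
          exact absurd (Finset.mem_range.2 (Nat.lt_succ_iff.2 (hm' ▸ this))) hi'
    obtain ⟨z, hz, hxz, hy'z⟩ := ih (m' + l) (by omega) x y' m' l a' b hx hy'P hm'2 hb le_rfl (hcut.trans hsum)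
    exact ⟨z, hz, hxz, hyx z hxz hy'z⟩

/-- the Euclidean algorithm for two `p`-polynomially related primitive elements -/
theorem exists_common_of_relation : ∀ (N : ℕ) (x y : A) (m l : ℕ) (a b : ℕ → k), IsPrim k x → IsPrim k y →
    a m ≠ 0 → b l ≠ 0 → m + l ≤ N → pp p a m x = pp p b l y →
      ∃ z, IsPrim k z ∧ x ∈ Algebra.adjoin k {z} ∧ y ∈ Algebra.adjoin k {z} := by
  intro N
  induction N using Nat.strong_induction_on with
  | _ N ih =>
    intro x y m l a b hx hy ha hb hN hrel
    rcases le_total l m with hlm | hlm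
    swap
    · rcases eq_or_lt_of_le hlm with rfl | hlt
      swap
      · -- symmetric case
        exact (exists_common_of_relation_aux N ih y x l m b a hy hx hb ha (by omega) hlt.le hrel.symm).imp
          fun z hz => ⟨hz.1, hz.2.2, hz.2.1⟩
      · exact exists_common_of_relation_aux N ih x y m m a b hx hy ha hb hN le_rfl hrel
    · exact exists_common_of_relation_aux N ih x y m l a b hx hy ha hb hN hlm hrel

variable [Algebra.FiniteType k A]

/-- a multiple of an element modulo a nonzero primitive is killed by a `p`-polynomial -/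
theorem exists_pp_mem (hdim : ringKrullDim A = 1) {x : A} (hx0 : x ≠ 0) (b : A) :
    ∃ (a : ℕ → k) (m : ℕ), a m ≠ 0 ∧ pp p a m b ∈ Ideal.span {x} := by
  classical
  have := finite_quotient (k := k) hdim (I := Ideal.span {x}) (by simpa using hx0)
  set v : ℕ → A ⧸ Ideal.span {x} := fun i => (Ideal.Quotient.mk (Ideal.span {x}) b) ^ p ^ i
  have hdep : ¬ LinearIndependent k v := fun h => by
    have := h.finite
    exact _root_.not_finite ℕ
  rw [linearIndependent_iff] at hdep
  push Not at hdep
  obtain ⟨l, hl, hl0⟩ := hdep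
  have hne : l.support.Nonempty := Finsupp.support_nonempty_iff.2 hl0
  refine ⟨l, l.support.max' hne, Finsupp.mem_support_iff.1 (Finset.max'_mem _ hne), ?_⟩
  rw [← Ideal.Quotient.eq_zero_iff_mem, ← Ideal.Quotient.mkₐ_eq_mk k, map_pp, Ideal.Quotient.mkₐ_eq_mk, pp,
    ← hl, Finsupp.linearCombination_apply, Finsupp.sum]
  symm
  exact Finset.sum_subset
    (fun i hi => Finset.mem_range.2 (Nat.lt_succ_iff.2 (Finset.le_max' _ i hi)))
    fun i _ hi => by rw [Finsupp.notMem_support_iff.1 hi, zero_smul]

/-- any two primitive elements are polynomials in a third -/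
theorem exists_common (p : ℕ) [hp : Fact p.Prime] [CharP k p] (hdim : ringKrullDim A = 1) {x y : A} (hx : IsPrim k x) (hy : IsPrim k y) :
    ∃ z, IsPrim k z ∧ x ∈ Algebra.adjoin k {z} ∧ y ∈ Algebra.adjoin k {z} := by
  rcases eq_or_ne x 0 with rfl | hx0
  · exact ⟨y, hy, zero_mem _, Algebra.subset_adjoin rfl⟩
  rcases eq_or_ne y 0 with rfl | hy0
  · exact ⟨x, hx, Algebra.subset_adjoin rfl, zero_mem _⟩
  have := charP_alg k A p
  obtain ⟨a, m, ha, hmem⟩ := exists_pp_mem (k := k) (p := p) hdim hx0 y
  have hw := isPrim_pp (p := p) hy a m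
  have := isHopfIdeal_span_primitive (k := k) hx
  have hwx : pp p a m y ∈ Algebra.adjoin k {x} := by
    refine mem_adjoin_of_invariant hx (Bialgebra.Quotient.mkBialgHom (Ideal.span {x})) Ideal.Quotient.mk_surjective
      (fun c hc => Ideal.Quotient.eq_zero_iff_mem.1 hc) ?_
    rw [hw, map_add, LinearMap.lTensor_tmul, LinearMap.lTensor_tmul]
    change pp p a m y ⊗ₜ[k] (Ideal.Quotient.mk (Ideal.span {x}) (1 : A)) +
      (1 : A) ⊗ₜ[k] (Ideal.Quotient.mk (Ideal.span {x}) (pp p a m y)) = _
    rw [Ideal.Quotient.eq_zero_iff_mem.2 hmem, TensorProduct.tmul_zero, add_zero, map_one]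
  rw [Algebra.adjoin_singleton_eq_range_aeval] at hwx
  obtain ⟨f, hf⟩ := hwx
  have hg : pp p a m y ≠ 0 := fun e0 => by
    haveI : CharP (Polynomial k) p := charP_of_injective_algebraMap (algebraMap k _).injective p
    refine hy0 (eq_zero_of_aeval_eq_zero hy (pp p a m Polynomial.X) (fun e1 => ?_) (by rw [map_pp, Polynomial.aeval_X, e0]))
    have := natDegree_pp (p := p) ha (Polynomial.X : Polynomial k)
    rw [e1, Polynomial.natDegree_zero, Polynomial.natDegree_X, mul_one] at this
    exact (pow_pos hp.out.pos m).ne this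
  change Polynomial.aeval x f = pp p a m y at hf
  obtain ⟨b, l, hb, hbl⟩ := exists_pp_of_isPrim (p := p) hx hx0 (f := f) (fun e0 => hg (by rw [← hf, e0, map_zero]))
    (hf ▸ hw)
  exact exists_common_of_relation (p := p) (l + m) x y l m b a hx hy hb ha le_rfl (hbl.symm.trans hf)

end Groth.Misc1.Unip.DimOne
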