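import Groth.Agent.Misc1.Unip.Trig
import Groth.Agent.Misc1.Unip.DimOne.Basic
import Groth.Agent.Hopf.Burnside

/-!
# Unipotence from constancy of the characters
-/

set_option autoImplicit false
set_option linter.unusedSectionVars false

universe u v w

open TensorProduct WithConv Groth.ComodLib

noncomputable section

namespace Groth.Misc1.Unip.DimOne

variable {k : Type u} [Field k] [IsAlgClosed k] {A : Type v} [CommRing A] [Bialgebra k A]

/-- a simple comodule with constant character is fixed -/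
theorem fixedPts_eq_top_of_trace {V : Type w} [AddCommGroup V] [Module k V] [HopfRep.Comod k A V]
    [Module.Finite k V] (hV : HopfRep.IsSimpleComod k A V) {c : k}
    (htr : ∀ φ : A →ₗ[k] k, LinearMap.trace k V (op φ) = c * φ 1) : HopfRep.fixedPts k A V = ⊤ := by
  classical
  have := hV.1
  let b := Module.finBasis k V
  have hspan : ∀ X : Module.End k V, ∃ φ : A →ₗ[k] k, op φ = X := by
    intro X
    obtain ⟨φ, hφ⟩ := mem_of_irreducible (rho k A V).range (fun U hU => hV.2 U
      ((isSubcomod_iff U).2 fun φ x hx => hU (rho k A V (toConv φ)) ⟨toConv φ, rfl⟩ x hx)) X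
    exact ⟨φ.ofConv, hφ⟩
  have hmul : ∀ φ ψ : A →ₗ[k] k,
      LinearMap.trace k V (op φ * op ψ) = c * (φ 1 * ψ 1) := by
    intro φ ψ
    have h : op φ * op ψ = op (V := V) (toConv φ * toConv ψ).ofConv :=
      LinearMap.ext fun x => (op_mul (toConv φ) (toConv ψ) x).symm
    rw [h, htr]
    congr 1
    change LinearMap.mul' k k (TensorProduct.map φ ψ (Coalgebra.comul (R := k) (1 : A))) = _
    rw [Bialgebra.comul_one, Algebra.TensorProduct.one_def, TensorProduct.map_tmul, LinearMap.mul'_apply]
  let M : Fin (Module.finrank k V) → Fin (Module.finrank k V) → Module.End k V :=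
    fun i j => (b.coord j).smulRight (b i)
  have hMtr : ∀ i j, LinearMap.trace k V (M i j) = if j = i then 1 else 0 := by
    intro i j
    rw [show M i j = dualTensorHom k V V (b.coord j ⊗ₜ b i) from LinearMap.ext fun x => by simp [M],
      LinearMap.trace_eq_contract_apply, contractLeft_apply, Module.Basis.coord_apply,
      Module.Basis.repr_self, Finsupp.single_apply]
    simp [eq_comm]
  have hMmul : ∀ i j, M i j * M j i = M i i := fun i j => LinearMap.ext fun x => by simp [M]
  have hn : 0 < Module.finrank k V := Module.finrank_pos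
  let i₀ : Fin (Module.finrank k V) := ⟨0, hn⟩
  obtain ⟨φ₀, h₀⟩ := hspan (M i₀ i₀)
  have e1 : c * φ₀ 1 = 1 := by rw [← htr, h₀, hMtr, if_pos rfl]
  have e2 : c * (φ₀ 1 * φ₀ 1) = 1 := by rw [← hmul, h₀, hMmul, hMtr, if_pos rfl]
  have e3 : φ₀ 1 = 1 := by linear_combination e2 - φ₀ 1 * e1
  have hc : c = 1 := by rwa [e3, mul_one] at e1
  have hsub : ∀ j, j = i₀ := by
    intro j
    by_contra hj
    obtain ⟨α, hα⟩ := hspan (M i₀ j)
    obtain ⟨β, hβ⟩ := hspan (M j i₀)
    have h1 : α 1 = 0 := by
      have := htr α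
      rwa [hα, hMtr, if_neg hj, hc, one_mul, eq_comm] at this
    have h2 := hmul α β
    rw [hα, hβ, hMmul, hMtr, if_pos rfl, h1, zero_mul, mul_zero] at h2
    exact one_ne_zero h2
  have hline : ∀ x : V, x = b.coord i₀ x • b i₀ := fun x => by
    conv_lhs => rw [← b.sum_repr x]
    rw [Finset.sum_eq_single i₀ (fun j _ h => absurd (hsub j) h) (fun h => absurd (Finset.mem_univ _) h)]
    rfl
  refine eq_top_iff.2 fun v _ => ?_
  refine sub_eq_zero.1 (eq_zero_of_slice (k := k) fun φ => ?_)
  rw [map_sub, slice_tmul, sub_eq_zero]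
  change op φ v = φ 1 • v
  have hd : op φ (b i₀) = LinearMap.trace k V (op φ) • b i₀ := by
    have hX : op (V := V) φ = (b.coord i₀ (op φ (b i₀))) • M i₀ i₀ := LinearMap.ext fun x => by
      conv_lhs => rw [hline x, map_smul, hline (op φ (b i₀))]
      simp [M, smul_smul, mul_comm]
    conv_rhs => rw [hX, map_smul, hMtr, if_pos rfl, smul_eq_mul, mul_one]
    exact hline _
  rw [hline v, map_smul, hd, htr, hc, one_mul, smul_comm]

/-- unipotence is detected on simple comodules -/
theorem isUnipotent_of_simple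
    (h : ∀ (V : Type v) [AddCommGroup V] [Module k V] [HopfRep.Comod k A V] [Module.Finite k V],
      HopfRep.IsSimpleComod k A V → HopfRep.fixedPts k A V = ⊤) : HopfRep.IsUnipotent k A := by
  intro V _ _ c _ _
  obtain ⟨U, ⟨hU0, hU⟩, hmin⟩ := WellFounded.has_min (wellFounded_lt (α := Submodule k V))
    {U | U ≠ ⊥ ∧ HopfRep.IsSubcomod (k := k) (A := A) U} ⟨⊤, top_ne_bot, isSubcomod_top⟩
  let cU := ComodSub.Comod.restr c U hU
  have hsimple : @HopfRep.IsSimpleComod k A _ _ _ _ U _ _ cU := by
    refine ⟨Submodule.nontrivial_iff_ne_bot.2 hU0, fun W hW => ?_⟩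
    have hm := @isSubcomod_map k _ A _ _ _ U _ _ cU V _ _ c _ U.subtype
      (ComodSub.isComodHom_subtype c U hU) W hW
    rcases eq_or_ne W ⊥ with h | h
    · exact Or.inl h
    · refine Or.inr ?_
      have h1 : W.map U.subtype = U := by
        refine (Submodule.map_subtype_le U W).eq_of_not_lt (hmin _ ⟨fun h2 => h ?_, hm⟩)
        exact Submodule.map_injective_of_injective U.injective_subtype (h2.trans (Submodule.map_bot _).symm)
      exact Submodule.map_injective_of_injective U.injective_subtype (h1.trans (Submodule.map_subtype_top U).symm)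
  obtain ⟨u, hu, hu0⟩ := (Submodule.ne_bot_iff _).1 hU0
  have hfix : (⟨u, hu⟩ : U) ∈ @HopfRep.fixedPts k A _ _ _ U _ _ cU :=
    (@h U _ _ cU inferInstance hsimple) ▸ Submodule.mem_top
  refine fun hbot => hu0 ((Submodule.mem_bot k).1 (hbot ▸ ?_))
  have hm := LinearMap.congr_fun (ComodSub.isComodHom_subtype c U hU) ⟨u, hu⟩
  simp only [LinearMap.comp_apply, Submodule.subtype_apply] at hm
  change c.coact u = u ⊗ₜ[k] (1 : A)
  rw [hm, show cU.coact ⟨u, hu⟩ = (⟨u, hu⟩ : U) ⊗ₜ[k] (1 : A) from hfix, LinearMap.rTensor_tmul]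
  rfl

end Groth.Misc1.Unip.DimOne
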